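import Groth.Agent.Lib.AffCompl.Compl
import Groth.Agent.Lib.Ample18.Gen
import Groth.Agent.Lib.MeroLib.ZeroScheme
import Groth.Agent.Lib.RelAmple18.UnivClosed

/-!
# Zero loci of sections of ample invertible modules
-/

set_option autoImplicit false
set_option backward.isDefEq.respectTransparency false
set_option backward.isDefEq.respectTransparency.types false

universe u

open CategoryTheory AlgebraicGeometry TopologicalSpace Opposite

namespace Groth.Agent.AffCompl

variable {X : Scheme.{u}} {L : X.Modules}

/-- The zero scheme is the complement of the generation locus. -/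
theorem coe_support_zeroScheme (hL : PicF.IsInvertible L) (s : Coh.structureModule X ⟶ L) :
    ((PicF2.zeroScheme L s).support : Set X) = (CohB1.genLocus L s : Set X)ᶜ := by
  ext x
  obtain ⟨U, e, a, hxU, -, hU, he, ha, hgl⟩ := Amp.exists_local hL s (V := ⊤) (x := x) trivial
  have hsv : MeroLib.sval L s U = a • e := (ha.trans (Amp.res_gval s U)).symm
  have hbij : Function.Bijective fun r : Γ(X, U) => r • e := by
    refine ⟨fun r r' h => (he U le_rfl).1 ?_, fun t => ?_⟩
    · show r • _ = r' • _
      rw [Amp.res_self]
      exact h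
    · exact Amp.exists_coeff he t
  rw [SetLike.mem_coe, Scheme.IdealSheafData.mem_support_iff_of_mem (U := ⟨U, hU⟩) hxU,
    MeroLib.zeroScheme_ideal L s hL, MeroLib.zI_eq_span L s e hbij a hsv, Scheme.mem_zeroLocus_iff,
    Set.mem_compl_iff, SetLike.mem_coe]
  have hx : x ∈ CohB1.genLocus L s ↔ x ∈ X.basicOpen a := by
    rw [← hgl]
    exact ⟨fun h => ⟨h, hxU⟩, fun h => h.1⟩
  rw [hx]
  constructor
  · exact fun h => h a (Ideal.mem_span_singleton_self a)
  · intro h f hf hxf
    obtain ⟨b, rfl⟩ := Ideal.mem_span_singleton'.1 hf
    rw [Scheme.basicOpen_mul] at hxf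
    exact h hxf.2

/-- The zero scheme of a section of an ample module, not everywhere zero, is connected. -/
theorem isConnected_support_zeroScheme {k : Type u} [Field k] [IrreducibleSpace X] (p : X ⟶ Spec (CommRingCat.of k))
    [IsProper p] (hdim : (2 : WithBot ℕ∞) ≤ topologicalKrullDim X) (hL : CohB1.IsAmple L)
    (s : Coh.structureModule X ⟶ L) (hne : (CohB1.genLocus L s : Set X).Nonempty) :
    _root_.IsConnected ((PicF2.zeroScheme L s).support : Set X) := by
  rw [coe_support_zeroScheme hL.1 s]
  exact isConnected_compl_affineOpen p hdim (RA.isAffineOpen_genLocus_of_universallyClosed p hL s) hne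

theorem connectedSpace_zeroScheme {k : Type u} [Field k] [IrreducibleSpace X] (p : X ⟶ Spec (CommRingCat.of k))
    [IsProper p] (hdim : (2 : WithBot ℕ∞) ≤ topologicalKrullDim X) (hL : CohB1.IsAmple L)
    (s : Coh.structureModule X ⟶ L) (hne : (CohB1.genLocus L s : Set X).Nonempty) :
    ConnectedSpace ↥(PicF2.zeroScheme L s).subscheme := by
  have h := isConnected_support_zeroScheme p hdim hL s hne
  rw [← Scheme.IdealSheafData.range_subschemeι] at h
  have e := (PicF2.zeroScheme L s).subschemeι.isEmbedding.toHomeomorph
  haveI : ConnectedSpace (Set.range (PicF2.zeroScheme L s).subschemeι) := isConnected_iff_connectedSpace.1 h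
  exact e.symm.surjective.connectedSpace e.symm.continuous


/-- A monomorphism out of the structure sheaf of an integral scheme into an invertible module generates somewhere. -/
theorem genLocus_nonempty [IsIntegral X] (hL : PicF.IsInvertible L) (s : Coh.structureModule X ⟶ L) (hs : Mono s) :
    (CohB1.genLocus L s : Set X).Nonempty := by
  by_contra hne
  rw [Set.not_nonempty_iff_eq_empty] at hne
  have h0 : Amp.gval s = 0 := Amp.eq_of_gm fun x hx => by
    obtain ⟨U, e, a, hxU, -, hU, he, ha, hgl⟩ := Amp.exists_local hL s (V := ⊤) (x := x) trivial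
    have ha0 : a = 0 := by
      refine (AlgebraicGeometry.basicOpen_eq_bot_iff a).1 ?_
      rw [← hgl]
      exact le_bot_iff.1 fun y hy => by
        have : y ∈ (CohB1.genLocus L s : Set X) := hy.1
        rw [hne] at this
        exact this.elim
    rw [← Amp.gm_res le_top hxU, ← ha, ha0, zero_smul]
    exact (map_zero _).trans (map_zero _).symm
  have hs0 : s = 0 := by
    rw [← Amp.secHom_gval s, h0]
    have e := Amp.secHom_gval (0 : Coh.structureModule X ⟶ L)
    rw [show Amp.gval (0 : Coh.structureModule X ⟶ L) = 0 from rfl] at e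
    exact e
  have hid : 𝟙 (Coh.structureModule X) = 0 := by
    rw [← cancel_mono s, hs0]
    simp
  have h1 := congrArg (fun φ => Amp.gval φ) hid
  exact one_ne_zero (α := Γ(X, ⊤)) h1

end Groth.Agent.AffCompl
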