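import Mathlib

/-!
# Rational functions with bounded poles at infinity, and the cocycle lemma on projective space
-/

universe u

namespace Groth.Agent.AffCompl

open MvPolynomial Set

variable {k K : Type u} [Field k] [Field K] [Algebra k K] {d : ℕ} (y : Fin d → K)

/-- `q / y_i ^ N` with `deg q + a ≤ N`. -/
def W (i : Fin d) (a : ℤ) : Set K :=
  {f | ∃ (N : ℕ) (q : MvPolynomial (Fin d) k), (q.totalDegree : ℤ) + a ≤ N ∧ f * y i ^ N = aeval y q}

variable {y} {i : Fin d} {a b : ℤ} {f g : K}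

theorem totalDegree_mul_X_pow (q : MvPolynomial (Fin d) k) (i : Fin d) (s : ℕ) :
    (q * X i ^ s).totalDegree ≤ q.totalDegree + s :=
  (totalDegree_mul _ _).trans (add_le_add le_rfl (le_of_eq (totalDegree_X_pow i s)))

theorem W_raise {N : ℕ} {q : MvPolynomial (Fin d) k} (h : (q.totalDegree : ℤ) + a ≤ N)
    (hf : f * y i ^ N = aeval y q) {N' : ℕ} (hN : N ≤ N') :
    ∃ q' : MvPolynomial (Fin d) k, (q'.totalDegree : ℤ) + a ≤ N' ∧ f * y i ^ N' = aeval y q' := by
  refine ⟨q * X i ^ (N' - N), ?_, ?_⟩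
  · have := totalDegree_mul_X_pow q i (N' - N)
    omega
  · rw [map_mul, map_pow, aeval_X, ← hf, mul_assoc, ← pow_add, Nat.add_sub_cancel' hN]

theorem W_mono (h : f ∈ W (k := k) y i a) (hab : b ≤ a) : f ∈ W (k := k) y i b := by
  obtain ⟨N, q, h1, h2⟩ := h
  exact ⟨N, q, by omega, h2⟩

theorem W_zero (a : ℤ) : (0 : K) ∈ W (k := k) y i a :=
  ⟨a.toNat, 0, by rw [totalDegree_zero]; omega, by simp⟩

theorem W_add (h : f ∈ W (k := k) y i a) (h' : g ∈ W (k := k) y i a) : f + g ∈ W (k := k) y i a := by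
  obtain ⟨N, q, h1, h2⟩ := h
  obtain ⟨N', q', h1', h2'⟩ := h'
  obtain ⟨p, hp, hp'⟩ := W_raise h1 h2 (le_max_left N N')
  obtain ⟨p', hq, hq'⟩ := W_raise h1' h2' (le_max_right N N')
  refine ⟨max N N', p + p', ?_, by rw [add_mul, hp', hq', map_add]⟩
  have := totalDegree_add p p'
  omega

theorem W_sum {ι : Type*} (s : Finset ι) {F : ι → K} (h : ∀ x ∈ s, F x ∈ W (k := k) y i a) :
    ∑ x ∈ s, F x ∈ W (k := k) y i a := by
  classical
  induction s using Finset.induction_on with
  | empty => simpa using W_zero a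
  | insert x s hx ih =>
    rw [Finset.sum_insert hx]
    exact W_add (h _ (Finset.mem_insert_self _ _)) (ih fun z hz => h z (Finset.mem_insert_of_mem hz))

theorem W_mul (h : f ∈ W (k := k) y i a) (h' : g ∈ W (k := k) y i b) : f * g ∈ W (k := k) y i (a + b) := by
  obtain ⟨N, q, h1, h2⟩ := h
  obtain ⟨N', q', h1', h2'⟩ := h'
  refine ⟨N + N', q * q', ?_, ?_⟩
  · have := totalDegree_mul q q'
    push_cast
    omega
  · rw [map_mul, ← h2, ← h2', pow_add]; ring

theorem W_aeval (q : MvPolynomial (Fin d) k) : aeval y q ∈ W (k := k) y i (-(q.totalDegree : ℤ)) :=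
  ⟨0, q, by simp, by simp⟩

theorem W_inv_pow (hne : y i ≠ 0) (n : ℕ) : ((y i)⁻¹) ^ n ∈ W (k := k) y i n :=
  ⟨n, 1, by simp, by rw [← mul_pow, inv_mul_cancel₀ hne, one_pow, map_one]⟩

theorem W_pow (n : ℕ) : y i ^ n ∈ W (k := k) y i (-(n : ℤ)) :=
  ⟨0, X i ^ n, by rw [totalDegree_X_pow]; simp, by simp⟩

theorem W_algebraMap (c : k) : algebraMap k K c ∈ W (k := k) y i 0 :=
  ⟨0, C c, by simp, by simp⟩

/-- A polynomial vanishing at infinity is zero. -/
theorem eq_zero_of_aeval_mem (hy : AlgebraicIndependent k y) {p : MvPolynomial (Fin d) k}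
    (h : aeval y p ∈ W (k := k) y i a) (ha : 0 < a) : p = 0 := by
  obtain ⟨N, q, h1, h2⟩ := h
  have h3 : p * X i ^ N = q := algebraicIndependent_iff_injective_aeval.1 hy (by
    rw [map_mul, map_pow, aeval_X, h2])
  by_contra hp
  have := totalDegree_mul_of_isDomain hp (pow_ne_zero N (X_ne_zero (R := k) i))
  rw [h3, totalDegree_X_pow] at this
  omega

/-- Degrees cancel. -/
theorem totalDegree_add_le_of_mul {p P : MvPolynomial (Fin d) k} {n D : ℕ} {m : ℤ} (hP : P ≠ 0)
    (hn : P.totalDegree = n) (hp : p ≠ 0) (h : ((p * P).totalDegree : ℤ) + m ≤ D) :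
    (p.totalDegree : ℤ) + n + m ≤ D := by
  rw [totalDegree_mul_of_isDomain hp hP, hn] at h
  push_cast at h
  omega

theorem degree_single (i : Fin d) (n : ℕ) : Finsupp.degree (Finsupp.single i n) = n := by simp

theorem totalDegree_le_iff' (q : MvPolynomial (Fin d) k) (n : ℕ) :
    q.totalDegree ≤ n ↔ ∀ a : Fin d →₀ ℕ, coeff a q ≠ 0 → Finsupp.degree a ≤ n := by
  simp only [totalDegree, Finset.sup_le_iff, mem_support_iff]
  rfl

/-- **The cocycle lemma**: if the differences of the tails are small, all tails are one polynomial. -/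
theorem exists_tail (hd : 2 ≤ d) {N M m : ℕ} (hm : 0 < m) {q : Fin d → MvPolynomial (Fin d) k}
    (hq : ∀ i, (q i).totalDegree ≤ N + M)
    (hdiff : ∀ i j, i ≠ j → ∀ a : Fin d →₀ ℕ, coeff a (q i * X j ^ N - q j * X i ^ N) ≠ 0 →
      Finsupp.degree a + m ≤ 2 * N) :
    ∃ G : MvPolynomial (Fin d) k, G.totalDegree ≤ M ∧
      ∀ i, ∀ a : Fin d →₀ ℕ, coeff a (q i - G * X i ^ N) ≠ 0 → Finsupp.degree a + m ≤ N := by
  classical
  have hX : ∀ (i : Fin d), (X i : MvPolynomial (Fin d) k) ^ N = monomial (Finsupp.single i N) 1 :=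
    fun i => X_pow_eq_monomial
  have hc : ∀ i j, i ≠ j → ∀ b : Fin d →₀ ℕ, 2 * N < Finsupp.degree b + N + m →
      coeff (b + Finsupp.single j N) (q i * X j ^ N) = coeff (b + Finsupp.single j N) (q j * X i ^ N) := by
    intro i j hij b hb
    by_contra h
    have := hdiff i j hij (b + Finsupp.single j N) (by rwa [coeff_sub, sub_ne_zero])
    rw [map_add, degree_single] at this
    omega
  obtain ⟨i₀⟩ : Nonempty (Fin d) := ⟨⟨0, by omega⟩⟩
  have hdiv : ∀ i j, i ≠ j → (q i).divMonomial (Finsupp.single i N) = (q j).divMonomial (Finsupp.single j N) := by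
    intro i j hij
    ext b
    have h := hc i j hij (Finsupp.single i N + b) (by rw [map_add, degree_single]; omega)
    rw [hX, hX, coeff_mul_monomial, mul_one] at h
    rw [coeff_divMonomial, coeff_divMonomial, h,
      show Finsupp.single i N + b + Finsupp.single j N = (Finsupp.single j N + b) + Finsupp.single i N by abel,
      coeff_mul_monomial, mul_one]
  let G := (q i₀).divMonomial (Finsupp.single i₀ N)
  have hG : ∀ i, (q i).divMonomial (Finsupp.single i N) = G := fun i => by
    rcases eq_or_ne i i₀ with rfl | h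
    · rfl
    · exact hdiv i i₀ h
  refine ⟨G, (totalDegree_le_iff' _ _).2 fun a ha => ?_, fun i a ha => ?_⟩
  · rw [coeff_divMonomial] at ha
    have := (totalDegree_le_iff' _ _).1 (hq i₀) _ ha
    rw [map_add, degree_single] at this
    omega
  · have hi : a i < N := by
      by_contra hge
      push Not at hge
      obtain ⟨b, rfl⟩ : ∃ b, a = Finsupp.single i N + b :=
        ⟨a - Finsupp.single i N, (add_tsub_cancel_of_le (Finsupp.single_le_iff.2 hge)).symm⟩
      apply ha
      rw [coeff_sub, ← coeff_divMonomial, hG i, hX, add_comm, coeff_mul_monomial, mul_one, sub_self]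
    by_contra hlt
    push Not at hlt
    obtain ⟨j, hji⟩ : ∃ j, j ≠ i := by
      haveI : Nontrivial (Fin d) := Fin.nontrivial_iff_two_le.2 hd
      exact exists_ne i
    apply ha
    have hnle : ¬ Finsupp.single i N ≤ a := fun h => by
      have := Finsupp.single_le_iff.1 h
      omega
    rw [coeff_sub, hX, coeff_mul_monomial', if_neg hnle, sub_zero]
    have h := hc i j hji.symm a (by omega)
    rw [hX, hX, coeff_mul_monomial, mul_one, coeff_mul_monomial', if_neg] at h
    · exact h
    · intro h'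
      have := Finsupp.single_le_iff.1 h'
      rw [Finsupp.add_apply, Finsupp.single_eq_of_ne hji.symm, add_zero] at this
      omega

end Groth.Agent.AffCompl
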