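import Groth.Agent.Lib.AffCompl.Dual
import Groth.Agent.Lib.AffCompl.Poly

/-!
# The charts at infinity of a finite extension of a rational function field
-/

universe u

namespace Groth.Agent.AffCompl

open Set IntermediateField MvPolynomial

variable {k K : Type u} [Field k] [Field K] [Algebra k K] {d : ℕ}

/-- Coordinates of the chart `x_i ≠ 0` at infinity. -/
noncomputable def zt (y : Fin d → K) (i : Fin d) : Fin d → K := fun j => if j = i then (y i)⁻¹ else y j / y i

variable {y : Fin d → K}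

theorem zt_self (i : Fin d) : zt y i i = (y i)⁻¹ := if_pos rfl

theorem zt_of_ne {i j : Fin d} (h : j ≠ i) : zt y i j = y j / y i := if_neg h

theorem zt_mem (i j : Fin d) : zt y i j ∈ polyAlg (k := k) (zt y i) := Algebra.subset_adjoin ⟨j, rfl⟩

theorem adjoin_zt (hy : AlgebraicIndependent k y) (i : Fin d) :
    IntermediateField.adjoin k (range (zt y i)) = IntermediateField.adjoin k (range y) := by
  have hi : y i ≠ 0 := hy.ne_zero i
  refine le_antisymm (adjoin_le_iff.2 ?_) (adjoin_le_iff.2 ?_)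
  · rintro _ ⟨j, rfl⟩
    have h : ∀ l, y l ∈ IntermediateField.adjoin k (range y) := fun l => subset_adjoin k _ ⟨l, rfl⟩
    rcases eq_or_ne j i with rfl | hj
    · rw [zt_self]; exact inv_mem (h j)
    · rw [zt_of_ne hj]; exact div_mem (h j) (h i)
  · rintro _ ⟨j, rfl⟩
    have h : ∀ l, zt y i l ∈ IntermediateField.adjoin k (range (zt y i)) := fun l => subset_adjoin k _ ⟨l, rfl⟩
    rcases eq_or_ne j i with rfl | hj
    · have := inv_mem (h j)
      rwa [zt_self, inv_inv] at this
    · have := mul_mem (h j) (inv_mem (h i))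
      rwa [zt_of_ne hj, zt_self, inv_inv, div_mul_cancel₀ _ hi] at this

theorem indep_zt (hy : AlgebraicIndependent k y) [FiniteDimensional (IntermediateField.adjoin k (range y)) K]
    (i : Fin d) : AlgebraicIndependent k (zt y i) := by
  haveI : FiniteDimensional (IntermediateField.adjoin k (range (zt y i))) K := (adjoin_zt hy i).symm ▸ inferInstance
  haveI : Algebra.IsAlgebraic (Algebra.adjoin k (range (zt y i))) K :=
    ⟨fun x => IntermediateField.isAlgebraic_adjoin_iff.1 (Algebra.IsAlgebraic.isAlgebraic x)⟩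
  refine (Algebra.IsAlgebraic.isTranscendenceBasis_of_lift_le_trdeg_of_finite k (zt y i) ?_).1
  exact AlgebraicIndependent.lift_cardinalMk_le_trdeg hy

theorem polyAlg_le_W {i : Fin d} (hi : y i ≠ 0) {f : K} (hf : f ∈ polyAlg (k := k) (zt y i)) :
    f ∈ W (k := k) y i 0 := by
  induction hf using Algebra.adjoin_induction with
  | mem x hx =>
    obtain ⟨j, rfl⟩ := hx
    rcases eq_or_ne j i with rfl | hj
    · rw [zt_self]
      exact W_mono (by simpa using W_inv_pow (k := k) hi 1) zero_le_one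
    · rw [zt_of_ne hj]
      exact ⟨1, X j, by rw [totalDegree_X]; simp, by rw [pow_one, div_mul_cancel₀ _ hi, aeval_X]⟩
  | algebraMap r => exact W_algebraMap r
  | add x z _ _ hx hz => exact W_add hx hz
  | mul x z _ _ hx hz => simpa using W_mul hx hz

theorem W_le_polyAlg {i : Fin d} (hi : y i ≠ 0) {a : ℤ} (ha : 0 ≤ a) {f : K} (hf : f ∈ W (k := k) y i a) :
    f ∈ polyAlg (k := k) (zt y i) := by
  classical
  obtain ⟨N, q, h1, h2⟩ := hf
  have hf' : f = ∑ s ∈ q.support, aeval y (monomial s (coeff s q)) * ((y i)⁻¹) ^ N := by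
    rw [← Finset.sum_mul, ← map_sum, support_sum_monomial_coeff, ← h2, inv_pow,
      mul_assoc, mul_inv_cancel₀ (pow_ne_zero N hi), mul_one]
  rw [hf']
  refine Subalgebra.sum_mem _ fun s hs => ?_
  have hdeg : Finsupp.degree s ≤ N := by
    have := (totalDegree_le_iff' q q.totalDegree).1 le_rfl s (mem_support_iff.1 hs)
    omega
  rw [aeval_monomial, mul_assoc, ← Nat.sub_add_cancel hdeg, pow_add, mul_left_comm (s.prod _)]
  refine Subalgebra.mul_mem _ (Subalgebra.algebraMap_mem _ _) (Subalgebra.mul_mem _ ?_ ?_)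
  · rw [← zt_self (y := y) i]
    exact Subalgebra.pow_mem _ (zt_mem i i) _
  · rw [Finsupp.degree_apply, ← Finset.prod_pow_eq_pow_sum, Finsupp.prod, ← Finset.prod_mul_distrib]
    refine Subalgebra.prod_mem _ fun j _ => ?_
    rw [← mul_pow]
    refine Subalgebra.pow_mem _ ?_ _
    rcases eq_or_ne j i with rfl | hj
    · rw [mul_inv_cancel₀ hi]; exact Subalgebra.one_mem _
    · rw [← div_eq_mul_inv, ← zt_of_ne hj]; exact zt_mem i j

theorem polyAlg_range {f : K} (hf : f ∈ polyAlg (k := k) y) :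
    ∃ q : MvPolynomial (Fin d) k, f = aeval y q := by
  obtain ⟨q, rfl⟩ := (Algebra.adjoin_range_eq_range_aeval k y).le hf
  exact ⟨q, rfl⟩

/-- Clearing denominators in integrality. -/
theorem exists_pow_mul_integral {A A' : Subalgebra k K} {u : K} (hu : u ∈ A)
    (h : ∀ f ∈ A', ∃ N : ℕ, u ^ N * f ∈ A) {g : K} (hg : IsIntegral A' g) :
    ∃ N : ℕ, IsIntegral A (u ^ N * g) := by
  classical
  obtain ⟨p, hp, hpg⟩ := hg
  choose N hN using fun m => h (p.coeff m : K) (p.coeff m).2
  obtain ⟨T, hT⟩ : ∃ T, ∀ m ≤ p.natDegree, N m ≤ T :=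
    ⟨(Finset.range (p.natDegree + 1)).sup N, fun m hm => Finset.le_sup (Finset.mem_range.2 (by omega))⟩
  let Q : Polynomial K := (p.map (algebraMap A' K)).scaleRoots (u ^ T)
  have hQ : Q ∈ Polynomial.lifts (algebraMap A K) := by
    refine (Polynomial.lifts_iff_coeff_lifts _).2 fun m => ?_
    rw [Polynomial.coeff_scaleRoots, Polynomial.coeff_map, Polynomial.natDegree_map_eq_of_injective Subtype.val_injective]
    rcases Nat.lt_trichotomy m p.natDegree with hm | rfl | hm
    · refine ⟨⟨(p.coeff m : K) * (u ^ T) ^ (p.natDegree - m), ?_⟩, rfl⟩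
      have h1 : u ^ T * (p.coeff m : K) ∈ A := by
        rw [← Nat.sub_add_cancel (hT m hm.le), pow_add, mul_assoc]
        exact A.mul_mem (A.pow_mem hu _) (hN m)
      rw [← Nat.sub_add_cancel (show 1 ≤ p.natDegree - m by omega), pow_succ', ← mul_assoc, mul_comm (p.coeff m : K)]
      exact A.mul_mem h1 (A.pow_mem (A.pow_mem hu _) _)
    · exact ⟨1, by simp [hp.coeff_natDegree]⟩
    · exact ⟨0, by simp [Polynomial.coeff_eq_zero_of_natDegree_lt hm]⟩
  obtain ⟨P, hP, -, hPm⟩ := Polynomial.lifts_and_degree_eq_and_monic hQ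
    ((Polynomial.monic_scaleRoots_iff _).2 (hp.map _))
  refine ⟨T, P, hPm, ?_⟩
  rw [← Polynomial.eval_map, hP, ← Polynomial.coe_aeval_eq_eval]
  refine Polynomial.scaleRoots_aeval_eq_zero ?_
  rw [Polynomial.coe_aeval_eq_eval, Polynomial.eval_map]
  exact hpg

theorem aeval_mul_inv_pow_mem (hy : AlgebraicIndependent k y) (i : Fin d) (q : MvPolynomial (Fin d) k) :
    ∃ N : ℕ, ((y i)⁻¹) ^ N * aeval y q ∈ polyAlg (k := k) (zt y i) := by
  refine ⟨q.totalDegree, W_le_polyAlg (hy.ne_zero i) le_rfl ?_⟩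
  simpa using W_mul (W_inv_pow (k := k) (hy.ne_zero i) q.totalDegree) (W_aeval (i := i) q)

variable {F : IntermediateField k K} [FiniteDimensional F K]

/-- Admissible functionals are bounded at infinity. -/
theorem exists_bound (hy : AlgebraicIndependent k y) (hF : IntermediateField.adjoin k (range y) = F)
    (i : Fin d) (ψ : K →ₗ[F] F) (hψ : Admissible F y ψ) :
    ∃ M : ℕ, ∀ b ∈ clos (k := k) (zt y i), (ψ b : K) ∈ W (k := k) y i (-(M : ℤ)) := by
  classical
  subst hF
  have hi := hy.ne_zero i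
  haveI := finite_clos (indep_zt hy i) (adjoin_zt hy i)
  obtain ⟨s, g, hg⟩ := Module.Finite.exists_fin (R := polyAlg (k := k) (zt y i)) (M := clos (k := k) (zt y i))
  have h1 : ∀ f ∈ polyAlg (k := k) (zt y i), ∃ N : ℕ, y i ^ N * f ∈ polyAlg (k := k) y := fun f hf => by
    obtain ⟨N, q, -, hq⟩ := polyAlg_le_W hi hf
    exact ⟨N, by rw [mul_comm, hq]; exact aeval_mem y q⟩
  have h2 : ∀ l, ∃ M : ℕ, (ψ (g l : K) : K) ∈ W (k := k) y i (-(M : ℤ)) := fun l => by
    obtain ⟨N, hN⟩ := exists_pow_mul_integral (Algebra.subset_adjoin ⟨i, rfl⟩ : y i ∈ polyAlg (k := k) y) h1 (g l).2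
    obtain ⟨q, hq⟩ := polyAlg_range (hψ _ hN)
    have hyN : y i ^ N ∈ IntermediateField.adjoin k (range y) :=
      pow_mem (IntermediateField.subset_adjoin k _ (Set.mem_range_self i)) N
    have e : ψ (y i ^ N * (g l : K)) = (⟨_, hyN⟩ : IntermediateField.adjoin k (range y)) * ψ (g l : K) :=
      ψ.map_smul ⟨_, hyN⟩ (g l : K)
    refine ⟨q.totalDegree, N, q, by omega, ?_⟩
    rw [← hq, e]
    push_cast
    ring
  choose M hM using h2
  refine ⟨Finset.univ.sup M, fun b hb => ?_⟩
  obtain ⟨c, hc⟩ := (Submodule.mem_span_range_iff_exists_fun _).1 (hg.ge (Submodule.mem_top (x := (⟨b, hb⟩ : clos (k := k) (zt y i)))))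
  have hb' : b = ∑ l, (c l : K) * (g l : K) := by
    have := congrArg (fun x : clos (k := k) (zt y i) => (x : K)) hc
    simp only [AddSubmonoidClass.coe_finsetSum] at this
    exact this.symm
  rw [hb', map_sum, AddSubmonoidClass.coe_finsetSum]
  refine W_sum _ fun l _ => ?_
  have hcl : (c l : K) ∈ IntermediateField.adjoin k (range y) :=
    adjoin_zt hy i ▸ IntermediateField.algebra_adjoin_le_adjoin k _ (c l).2
  have e : ψ ((c l : K) * (g l : K)) = (⟨_, hcl⟩ : IntermediateField.adjoin k (range y)) * ψ (g l : K) :=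
    ψ.map_smul ⟨_, hcl⟩ (g l : K)
  rw [e]
  refine W_mono (W_mul (polyAlg_le_W hi (c l).2) (hM l)) ?_
  have := Finset.le_sup (f := M) (Finset.mem_univ l)
  omega

/-- Generators of the admissible functionals detect membership in the charts at infinity. -/
theorem exists_detect (hy : AlgebraicIndependent k y) (hF : IntermediateField.adjoin k (range y) = F)
    {r : ℕ} {φ : Fin r → (K →ₗ[F] F)}
    (hgen : ∀ ψ, Admissible F y ψ → ∃ c : Fin r → F, (∀ l, (c l : K) ∈ polyAlg (k := k) y) ∧ ψ = ∑ l, c l • φ l)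
    (i : Fin d) :
    ∃ C : ℕ, ∀ (a : ℤ) (b : K), (C : ℤ) ≤ a → (∀ l, (φ l b : K) ∈ W (k := k) y i a) → b ∈ clos (k := k) (zt y i) := by
  classical
  subst hF
  have hi := hy.ne_zero i
  let F := IntermediateField.adjoin k (range y)
  obtain ⟨⟨s, ψ, hψ, hψgen⟩, hrefl⟩ := exists_dual (indep_zt hy i) (adjoin_zt hy i)
  haveI := finite_clos hy (rfl : IntermediateField.adjoin k (range y) = F)
  obtain ⟨n, g, hg⟩ := Module.Finite.exists_fin (R := polyAlg (k := k) y) (M := clos (k := k) y)
  have hyN : ∀ N : ℕ, y i ^ N ∈ F := fun N => pow_mem (IntermediateField.subset_adjoin k _ (Set.mem_range_self i)) N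
  -- a multiple of every `ψ m` is admissible on the affine part
  have hN : ∀ m, ∃ N : ℕ, Admissible F y ((⟨_, hyN N⟩ : F) • ψ m) := fun m => by
    have h1 : ∀ l, ∃ N : ℕ, y i ^ N * (ψ m (g l : K) : K) ∈ polyAlg (k := k) y := fun l => by
      obtain ⟨N, hN⟩ := exists_pow_mul_integral (u := (y i)⁻¹)
        (by rw [← zt_self (y := y) i]; exact zt_mem (k := k) i i)
        (fun f hf => by obtain ⟨q, rfl⟩ := polyAlg_range hf; exact aeval_mul_inv_pow_mem hy i q) (g l).2
      obtain ⟨T, q, -, hq⟩ := polyAlg_le_W hi (hψ m _ hN)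
      have hti : ((y i)⁻¹) ^ N ∈ F := pow_mem (inv_mem (IntermediateField.subset_adjoin k _ (Set.mem_range_self i))) N
      have e : ψ m (((y i)⁻¹) ^ N * (g l : K)) = (⟨_, hti⟩ : F) * ψ m (g l : K) := (ψ m).map_smul ⟨_, hti⟩ (g l : K)
      rw [e] at hq
      refine ⟨T, ?_⟩
      have : y i ^ T * (ψ m (g l : K) : K) = y i ^ N * aeval y q := by
        rw [← hq]
        push_cast
        rw [inv_pow]
        field_simp
      rw [this]
      exact (polyAlg (k := k) y).mul_mem (Subalgebra.pow_mem _ (Algebra.subset_adjoin (Set.mem_range_self i)) _) (aeval_mem y q)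
    choose N hN using h1
    refine ⟨Finset.univ.sup N, fun b hb => ?_⟩
    obtain ⟨c, hc⟩ := (Submodule.mem_span_range_iff_exists_fun _).1 (hg.ge (Submodule.mem_top (x := (⟨b, hb⟩ : clos (k := k) y))))
    have hb' : b = ∑ l, (c l : K) * (g l : K) := by
      have := congrArg (fun x : clos (k := k) y => (x : K)) hc
      simp only [AddSubmonoidClass.coe_finsetSum] at this
      exact this.symm
    rw [hb', LinearMap.smul_apply, map_sum, Finset.smul_sum, AddSubmonoidClass.coe_finsetSum]
    refine Subalgebra.sum_mem _ fun l _ => ?_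
    have hcl : (c l : K) ∈ F := IntermediateField.algebra_adjoin_le_adjoin k _ (c l).2
    have e : ψ m ((c l : K) * (g l : K)) = (⟨_, hcl⟩ : F) * ψ m (g l : K) := (ψ m).map_smul ⟨_, hcl⟩ (g l : K)
    rw [e, smul_eq_mul]
    show y i ^ Finset.univ.sup N * ((c l : K) * (ψ m (g l : K) : K)) ∈ _
    rw [← Nat.sub_add_cancel (Finset.le_sup (f := N) (Finset.mem_univ l)), pow_add, mul_mul_mul_comm]
    exact Subalgebra.mul_mem _ (Subalgebra.mul_mem _ (Subalgebra.pow_mem _ (Algebra.subset_adjoin (Set.mem_range_self i)) _) (c l).2) (hN l)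
  choose N hN using hN
  choose c hcA hc using fun m => hgen _ (hN m)
  choose q hq using fun m l => polyAlg_range (hcA m l)
  let D := Finset.univ.sup fun p : Fin s × Fin r => (q p.1 p.2).totalDegree
  refine ⟨D, fun a b ha hb => hrefl b fun χ hχ => ?_⟩
  obtain ⟨e, he, rfl⟩ := hψgen χ hχ
  rw [LinearMap.sum_apply, AddSubmonoidClass.coe_finsetSum]
  refine Subalgebra.sum_mem _ fun m _ => ?_
  rw [LinearMap.smul_apply, smul_eq_mul]
  refine Subalgebra.mul_mem _ (he m) (W_le_polyAlg hi le_rfl ?_)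
  have h1 : y i ^ N m * (ψ m b : K) = ∑ l, aeval y (q m l) * (φ l b : K) := by
    have h := congrArg (fun χ : K →ₗ[F] F => ((χ b : F) : K)) (hc m)
    simp only [LinearMap.sum_apply, LinearMap.smul_apply, smul_eq_mul, AddSubmonoidClass.coe_finsetSum] at h
    push_cast at h
    rw [h]
    exact Finset.sum_congr rfl fun l _ => by rw [hq m l]
  have h2 : ∑ l, aeval y (q m l) * (φ l b : K) ∈ W (k := k) y i 0 := by
    refine W_sum _ fun l _ => W_mono (W_mul (W_aeval (q m l)) (hb l)) ?_
    have : (q m l).totalDegree ≤ D := Finset.le_sup (f := fun p : Fin s × Fin r => (q p.1 p.2).totalDegree) (Finset.mem_univ (m, l))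
    omega
  rw [← h1] at h2
  have h3 := W_mul (W_inv_pow (k := k) hi (N m)) h2
  rw [inv_pow, inv_mul_cancel_left₀ (pow_ne_zero _ hi)] at h3
  exact W_mono h3 (by omega)

end Groth.Agent.AffCompl
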