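import Groth.Agent.Lib.AffCompl.Scheme
import Groth.Agent.Lib.VarDim.Alg
import Groth.Agent.Lib.IntClosFin.Main
import Groth.Agent.Lib.RedSep.Basic

/-!
# The complement of an affine open in a proper variety of dimension at least two is connected
-/

universe u

set_option backward.isDefEq.respectTransparency.types false

open CategoryTheory CategoryTheory.Limits AlgebraicGeometry IsLocalRing

namespace Groth.Agent.AffCompl

variable {k : Type u} [Field k] {X : Scheme.{u}}

theorem ringKrullDim_sections [IrreducibleSpace X] (p : X ⟶ Spec (CommRingCat.of k)) [LocallyOfFiniteType p]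
    {U : X.Opens} (hU : IsAffineOpen U) (hne : (U : Set X).Nonempty) :
    ringKrullDim Γ(X, U) = topologicalKrullDim X := by
  letI : X.Over (Spec (CommRingCat.of k)) := ⟨p⟩
  haveI : LocallyOfFiniteType (X ↘ Spec (CommRingCat.of k)) := ‹LocallyOfFiniteType p›
  rw [← PrimeSpectrum.topologicalKrullDim_eq_ringKrullDim, ← Groth.Agent.S1618.result k X U hne]
  exact (IsHomeomorph.topologicalKrullDim_eq hU.isoSpec.hom.homeomorph
    hU.isoSpec.hom.homeomorph.isHomeomorph).symm

theorem isConnected_compl_affineOpen_of_isIntegral [IsIntegral X] (p : X ⟶ Spec (CommRingCat.of k)) [IsProper p]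
    (hdim : (2 : WithBot ℕ∞) ≤ topologicalKrullDim X) {U : X.Opens} (hU : IsAffineOpen U)
    (hne : (U : Set X).Nonempty) : _root_.IsConnected ((U : Set X)ᶜ) := by
  classical
  haveI : Nonempty U := hne.to_subtype
  let A := Γ(X, U)
  haveI : IsDomain A := IsIntegral.component_integral U
  obtain ⟨a₀, ha₀⟩ := Spec.map_surjective (hU.fromSpec ≫ p)
  letI : Algebra k A := a₀.hom.toAlgebra
  haveI : Algebra.FiniteType k A := by
    have h : LocallyOfFiniteType (Spec.map a₀) := ha₀ ▸ inferInstance
    exact (HasRingHomProperty.Spec_iff (P := @LocallyOfFiniteType)).1 h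
  obtain ⟨d, φ, hφ, hfin⟩ := exists_finite_inj_algHom_of_fg k A
  let P := MvPolynomial (Fin d) k
  letI : Algebra P A := φ.toRingHom.toAlgebra
  haveI : Module.Finite P A := hfin
  have hd : 2 ≤ d := by
    have h1 : ringKrullDim A = d := by
      rw [VarDim.ringKrullDim_eq_of_isIntegral (R := P) (S := A) hφ,
        MvPolynomial.ringKrullDim_of_isNoetherianRing, ringKrullDim_eq_zero_of_field k, zero_add, Nat.card_fin]
    rw [← ringKrullDim_sections p hU hne, h1] at hdim
    exact_mod_cast hdim
  let K := X.functionField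
  let η := genericPoint X
  have hη : η ∈ U := ((genericPoint_spec X).mem_open_set_iff U.2).mpr (by simpa using hne)
  let θ : A ⟶ CommRingCat.of K := X.presheaf.germ U η hη
  let gen : Spec (CommRingCat.of K) ⟶ X := X.fromSpecStalk η
  have hθ : Spec.map θ ≫ hU.fromSpec = gen := hU.fromSpecStalk_eq_fromSpecStalk hη
  let κ : CommRingCat.of k ⟶ CommRingCat.of K := a₀ ≫ θ
  have hκ : Spec.map κ = gen ≫ p := by rw [Spec.map_comp, ha₀, ← Category.assoc, hθ]
  have hθinj : Function.Injective θ.hom := germ_injective_of_isIntegral X η hη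
  letI : Algebra k K := κ.hom.toAlgebra
  let θk : A →ₐ[k] K := ⟨θ.hom, fun _ => rfl⟩
  let y : Fin d → K := fun i => θk (φ (MvPolynomial.X i))
  have haeval : ∀ q : P, MvPolynomial.aeval y q = θk (φ q) := fun q => by
    rw [show MvPolynomial.aeval y = θk.comp φ from MvPolynomial.algHom_ext fun i => by simp [y]]
    rfl
  have hy : AlgebraicIndependent k y := algebraicIndependent_iff_injective_aeval.2 fun a b h => by
    rw [haeval, haeval] at h
    exact hφ (hθinj h)
  let F := IntermediateField.adjoin k (Set.range y)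
  have hAint : ∀ a : A, IsIntegral (polyAlg (k := k) y) (θk a) := fun a => by
    obtain ⟨Q, hQ, hQa⟩ := (Algebra.IsIntegral.isIntegral (R := P) a)
    let j : P →+* polyAlg (k := k) y := (MvPolynomial.aeval y).toRingHom.codRestrict _ (aeval_mem y)
    refine ⟨Q.map j, hQ.map _, ?_⟩
    rw [Polynomial.eval₂_map]
    have h := congrArg θk.toRingHom hQa
    rw [Polynomial.hom_eval₂, map_zero] at h
    refine Eq.trans ?_ h
    congr 1
    exact RingHom.ext haeval
  have hle : polyAlg (k := k) y ≤ F.toSubalgebra := IntermediateField.algebra_adjoin_le_adjoin k _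
  haveI : FiniteDimensional F K := by
    obtain ⟨s, g, hg⟩ := Module.Finite.exists_fin (R := P) (M := A)
    let L := IntermediateField.adjoin F (Set.range fun l => (θk (g l) : K))
    haveI : Finite (Set.range fun l => (θk (g l) : K)) := (Set.finite_range _).to_subtype
    haveI : FiniteDimensional F L := IntermediateField.finiteDimensional_adjoin (fun x hx => by
      obtain ⟨l, rfl⟩ := hx
      obtain ⟨Q, hQ, hQa⟩ := hAint (g l)
      refine ⟨Q.map (Subalgebra.inclusion hle).toRingHom, hQ.map _, ?_⟩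
      rw [Polynomial.eval₂_map, ← hQa]
      rfl)
    have hAL : ∀ a, θk a ∈ L := fun a => by
      obtain ⟨c, rfl⟩ := (Submodule.mem_span_range_iff_exists_fun P).1 (hg.ge (Submodule.mem_top (x := a)))
      rw [map_sum]
      refine sum_mem fun l _ => ?_
      rw [Algebra.smul_def, map_mul, show θk (algebraMap P A (c l)) = MvPolynomial.aeval y (c l) from (haeval _).symm]
      exact mul_mem (L.algebraMap_mem ⟨_, hle (aeval_mem y (c l))⟩) (IntermediateField.subset_adjoin F _ ⟨l, rfl⟩)
    have htop : L = ⊤ := by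
      refine eq_top_iff.2 fun x _ => ?_
      haveI := functionField_isFractionRing_of_isAffineOpen X U hU
      obtain ⟨a, b, -, rfl⟩ := IsFractionRing.div_surjective A x
      exact div_mem (hAL a) (hAL b)
    exact Module.Finite.equiv ((IntermediateField.equivOfEq htop).trans IntermediateField.topEquiv).toLinearEquiv
  have hin : ∀ (V : ValuationSubring K) x, IsCentre gen V x → x ∈ U → ∀ i, y i ∈ V := fun V x h hx i =>
    sections_mem hU θ hθ h hx _
  have hout' : ∀ (V : ValuationSubring K) x, IsCentre gen V x → x ∉ U → ∃ i, y i ∉ V := fun V x h hx => by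
    by_contra hall
    push Not at hall
    refine hx (centre_mem_of_sections κ hκ hU θ hθ h fun a => ?_)
    exact mem_of_integral V (fun b hb => mem_of_polyAlg V (base_mem κ hκ h) (by rintro _ ⟨i, rfl⟩; exact hall i) hb)
      (hAint a)
  have hcentre : ∀ z : X, ∃ V : ValuationSubring K, IsCentre gen V z := fun z => by
    have hz : z ∈ closure {gen (closedPoint K)} := by
      rw [show gen (closedPoint K) = η from Scheme.fromSpecStalk_closedPoint (x := η)]
      exact (genericPoint_spec X) ▸ Set.mem_univ z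
    obtain ⟨V, m, hm, hmz⟩ := exists_val_lift gen hz
    exact ⟨V, m, hm, hmz⟩
  refine ⟨?_, ?_⟩
  · rw [Set.nonempty_compl]
    intro htop
    have hUtop : U = ⊤ := TopologicalSpace.Opens.ext htop
    have hA : IsField A := by
      show IsField Γ(X, U)
      rw [hUtop]
      exact isField_of_universallyClosed k p
    have := ringKrullDim_eq_zero_of_isField hA
    rw [← ringKrullDim_sections p hU hne] at hdim
    rw [this] at hdim
    exact absurd hdim (by norm_num)
  rw [isPreconnected_closed_iff]
  intro t t' ht ht' hcov ⟨z₁, hz₁, hz₁'⟩ ⟨z₂, hz₂, hz₂'⟩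
  by_contra hempty
  have hUc : IsClosed ((U : Set X)ᶜ) := U.2.isClosed_compl
  let Z₁ := (U : Set X)ᶜ ∩ t
  let Z₂ := (U : Set X)ᶜ ∩ t'
  have hdisj : Disjoint Z₁ Z₂ := Set.disjoint_left.2 fun x h h' => hempty ⟨x, h.1, h.2, h'.2⟩
  let χ : ValuationSubring K → Prop := fun V => ∃ x, IsCentre gen V x ∧ x ∈ Z₁
  have hχ : ∀ V x, IsCentre gen V x → ((x ∈ Z₁ → χ V) ∧ (x ∈ Z₂ → ¬χ V)) := fun V x h =>
    ⟨fun h1 => ⟨x, h, h1⟩, fun h2 ⟨x', h', h1⟩ =>
      Set.disjoint_left.1 hdisj h1 (centre_unique κ hκ h' h ▸ h2)⟩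
  have hout : ∀ V : ValuationSubring K, (∃ i, y i ∉ V) → ∀ x, IsCentre gen V x → x ∈ Z₁ ∪ Z₂ := by
    intro V ⟨i, hi⟩ x h
    have hx : x ∈ (U : Set X)ᶜ := fun hxU => hi (hin V x h hxU i)
    exact (hcov hx).imp (fun h1 => ⟨hx, h1⟩) fun h1 => ⟨hx, h1⟩
  obtain ⟨V₁, hV₁⟩ := hcentre z₁
  obtain ⟨V₂, hV₂⟩ := hcentre z₂
  refine (hχ V₂ z₂ hV₂).2 ⟨hz₂, hz₂'⟩ (chi_const (F := F) hd hy rfl χ (fun i => ?_)
    (base_mem κ hκ hV₁) (hout' V₁ z₁ hV₁ hz₁) (base_mem κ hκ hV₂) (hout' V₂ z₂ hV₂ hz₂)
    ((hχ V₁ z₁ hV₁).1 ⟨hz₁, hz₁'⟩))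
  exact exists_pieces κ rfl hκ hy (hUc.inter ht) (hUc.inter ht') hdisj hout χ hχ i

/-- The complement of a nonempty affine open in an irreducible proper scheme of dimension at least two is connected. -/
theorem isConnected_compl_affineOpen [IrreducibleSpace X] (p : X ⟶ Spec (CommRingCat.of k)) [IsProper p]
    (hdim : (2 : WithBot ℕ∞) ≤ topologicalKrullDim X) {U : X.Opens} (hU : IsAffineOpen U)
    (hne : (U : Set X).Nonempty) : _root_.IsConnected ((U : Set X)ᶜ) := by
  let ι := (Scheme.IdealSheafData.vanishingIdeal (X := X) ⊤).subschemeι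
  have hsupp : Set.range ι = Set.univ := by
    rw [Scheme.IdealSheafData.range_subschemeι, Scheme.IdealSheafData.coe_support_vanishingIdeal]
    rfl
  have hh : IsHomeomorph ι := isHomeomorph_iff_isEmbedding_surjective.2
    ⟨ι.isEmbedding, Set.range_eq_univ.1 hsupp⟩
  let X' := (Scheme.IdealSheafData.vanishingIdeal (X := X) ⊤).subscheme
  haveI : IrreducibleSpace X' := by
    have hsurj := hh.homeomorph.symm.surjective
    have := (IrreducibleSpace.isIrreducible_univ X).image hh.homeomorph.symm hh.homeomorph.symm.continuous.continuousOn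
    rw [Set.image_univ, hsurj.range_eq] at this
    haveI : PreirreducibleSpace X' := ⟨this.2⟩
    exact { toNonempty := ⟨hh.homeomorph.symm (Classical.arbitrary X)⟩ }
  haveI : IsReduced X' := RedSepLib.isReduced_vanishingIdeal_subscheme _
  haveI : IsIntegral X' := (isIntegral_iff_irreducibleSpace_and_isReduced X').2 ⟨inferInstance, inferInstance⟩
  have hdim' : (2 : WithBot ℕ∞) ≤ topologicalKrullDim X' := by
    rwa [IsHomeomorph.topologicalKrullDim_eq _ hh]
  obtain ⟨x, hx⟩ := hne
  obtain ⟨x', rfl⟩ := hh.surjective x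
  have h := isConnected_compl_affineOpen_of_isIntegral (ι ≫ p) hdim' (hU.preimage ι) ⟨x', hx⟩
  have h2 := h.image ι ι.continuous.continuousOn
  rwa [Scheme.Hom.coe_preimage, ← Set.preimage_compl, Set.image_preimage_eq _ hh.surjective] at h2

end Groth.Agent.AffCompl
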