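import Groth.Agent.Lib.AffCompl.Ample
import Groth.Agent.Lib.EnriquesSeveri11.Lef
import Groth.Agent.Lib.SecDiv18.Basic
import Groth.Agent.Lib.VB17.Line
import Groth.Agent.Lib.CurveCoh17.IdealPow
import Groth.Agent.S4495

/-!
# Connectedness of ample divisors under a depth condition
-/

set_option autoImplicit false
set_option linter.style.haveILetI false
set_option backward.isDefEq.respectTransparency false
set_option backward.isDefEq.respectTransparency.types false

universe u

open CategoryTheory CategoryTheory.Limits AlgebraicGeometry TopologicalSpace Opposite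

namespace Groth.Agent.AffCompl

section Section

open Groth.Agent.M2 (tsec IsGenerator res)
open Groth.Agent.Amp

variable {X : Scheme.{u}} {L : X.Modules}

/-- A monomorphism out of the structure sheaf is a regular section. -/
theorem isRegularSec_of_mono (s : Coh.structureModule X ⟶ L) (hs : Mono s) : SecDiv.IsRegularSec s := by
  intro x r hr
  obtain ⟨V, hxV, b, rfl⟩ := X.presheaf.exists_germ_eq r
  rw [← gm_res (le_top : V ≤ ⊤) hxV, ← gm_smul] at hr
  obtain ⟨W, hxW, i, i', h⟩ := L.presheaf.germ_eq x hxV hxV _ 0 (hr.trans (map_zero _).symm)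
  have h' : res L i.le (b • res L (le_top : V ≤ ⊤) (gval s)) = 0 := h.trans (map_zero _)
  rw [res_smul, res_res, res_gval, ← Scheme.Modules.Hom.app_smul s,
    ← map_zero (s.app W).hom] at h'
  have h'' : X.presheaf.map (homOfLE i.le).op b * 1 = 0 := M1.app_injective s W h'
  rw [mul_one] at h''
  exact (TopCat.Presheaf.germ_res_apply X.presheaf (homOfLE i.le) x hxW b).symm.trans
    ((congrArg _ h'').trans (map_zero _))

/-- The divisor of a regular section of an invertible module, with its support. -/
theorem exists_divisor {D : X.Modules} (hL : PicF.IsInvertible L) (hD : PicF.IsInvertible D)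
    (e : CohB1.tensorMod L D ≅ Coh.structureModule X) (s : Coh.structureModule X ⟶ L) (hs : Mono s) :
    ∃ I : X.IdealSheafData, Nonempty (CohB1.tensorMod L (ClSub.idealMod I) ≅ Coh.structureModule X) ∧
      (I.support : Set X) = (CohB1.genLocus L s : Set X)ᶜ := by
  classical
  haveI := M2.isQCoh_of_isFinLocFree (M2.isFinLocFree_of_isInvertible hD)
  let τ := M2.tensorMap s (𝟙 D)
  haveI : Mono τ := VB17.mono_tensorMap s hD
  let φ := (M2.tensorLUnit D).inv ≫ τ ≫ e.hom
  haveI : Mono φ := inferInstance
  obtain ⟨i⟩ := SecDiv.nonempty_iso_idealMod φ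
  refine ⟨SecDiv.ofMono φ, ⟨M2.tensorIso (Iso.refl L) i.symm ≪≫ e⟩, ?_⟩
  ext x
  obtain ⟨U, g, hxU, -, -, hg⟩ := exists_isGenerator hL (V := ⊤) (x := x) trivial
  obtain ⟨V, g', hxV, hVU, hV, hg'⟩ := exists_isGenerator hD (V := U) hxU
  obtain ⟨a, ha⟩ := exists_coeff (isGenerator_res hVU hg) (res L le_top (gval s))
  let t := tsec L D (res L hVU g) g'
  let w : Γ(X, V) := e.hom.app V t
  have hw : IsUnit (X.presheaf.germ V x hxV w) := by
    have h := (gen_map_iso e hxV t).2 ((gen_tsec_iff hL hD hxV _ _).2
      ⟨gen_of_isGenerator (isGenerator_res hVU hg) hxV, gen_of_isGenerator hg' hxV⟩)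
    have h1 : e.hom.app V t = w • (show Γ(Coh.structureModule X, V) from (1 : Γ(X, V))) := (mul_one w).symm
    rw [h1, gm_smul] at h
    exact ((gen_one x hxV).ne_zero_smul _).1 h
  have hinv : (M2.tensorLUnit D).inv.app V g' = tsec (Coh.structureModule X) D (M1.one V) g' := by
    apply (ConcreteCategory.bijective_of_isIso ((M2.tensorLUnit D).hom.app V)).1
    refine Eq.trans ?_ ((CurveCoh17.tensorLUnit_tsec (1 : Γ(X, V)) g').trans (one_smul _ _)).symm
    exact congrArg (fun f => f.app V g') (M2.tensorLUnit D).inv_hom_id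
  have hφ : (show Γ(X, V) from φ.app V g') = a * w := by
    show e.hom.app V (τ.app V ((M2.tensorLUnit D).inv.app V g')) = a * w
    rw [hinv, M2.tensorMap_tsec, ← res_gval s V, ← ha, M2.tsec_smul_left, Scheme.Modules.Hom.app_smul]
    rfl
  have hI : (SecDiv.ofMono φ).ideal ⟨V, hV⟩ = Ideal.span {a * w} := by
    apply SetLike.coe_injective
    ext c
    simp only [SetLike.mem_coe, Ideal.mem_span_singleton']
    constructor
    · rintro ⟨m, rfl⟩
      obtain ⟨r, rfl⟩ := exists_coeff hg' m
      refine ⟨r, ?_⟩
      rw [← hφ]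
      exact (Scheme.Modules.Hom.app_smul φ r g').symm
    · rintro ⟨r, rfl⟩
      refine ⟨r • g', ?_⟩
      rw [← hφ]
      exact Scheme.Modules.Hom.app_smul φ r g'
  have hx : x ∈ CohB1.genLocus L s ↔ x ∈ X.basicOpen a := by
    rw [← genLocus_inf_eq_basicOpen hL s (isGenerator_res hVU hg) ha]
    exact ⟨fun h => ⟨h, hxV⟩, fun h => h.1⟩
  rw [SetLike.mem_coe, Scheme.IdealSheafData.mem_support_iff_of_mem (U := ⟨V, hV⟩) hxV, hI,
    Scheme.mem_zeroLocus_iff, Set.mem_compl_iff, SetLike.mem_coe, hx]
  constructor
  · intro h h'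
    refine h (a * w) (Ideal.mem_span_singleton_self _) ?_
    rw [Scheme.basicOpen_mul]
    exact ⟨h', (Scheme.mem_basicOpen X w x hxV).2 hw⟩
  · intro h f hf hxf
    obtain ⟨r, rfl⟩ := Ideal.mem_span_singleton'.1 hf
    rw [Scheme.basicOpen_mul, Scheme.basicOpen_mul] at hxf
    exact h hxf.2.1

end Section

variable {k : Type u} [Field k] {X : Scheme.{u}} [X.Over (Spec (CommRingCat.of k))]
  [IsProper (X ↘ (Spec (CommRingCat.of k)))]

include k in
/-- An ample divisor on a connected proper scheme of depth at least two at closed points is connected. -/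
theorem isConnected_support_of_depth [ConnectedSpace X] {I : X.IdealSheafData} {L : X.Modules}
    (e : CohB1.tensorMod L (ClSub.idealMod I) ≅ Coh.structureModule X) (hamp : CohB1.IsAmple L)
    (hdepth : ∀ x : X, IsClosed ({x} : Set X) → (2 : ℕ∞) ≤ LocCoh.depth (X.presheaf.stalk x) (X.presheaf.stalk x)) :
    _root_.IsConnected (I.support : Set X) := by
  haveI : AlgebraicGeometry.IsNoetherian X := CohFound.isNoetherian_of_isProper (X ↘ Spec (CommRingCat.of k))
  obtain ⟨m₀, hm⟩ := ES11.exists_forall_bijective_comp (k := k) e hamp hdepth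
    (F := Coh.structureModule X) (Snapper.isCoh_of_isInvertible (PicLoc.isInvertible_structureModule X))
  have hb := hm (m₀ + 1) (Nat.le_succ _)
  let J := I ^ (m₀ + 1)
  let χ : Γ(X, ⊤) →+* Γ(J.subscheme, ⊤) := J.subschemeι.appTop.hom
  have hχ : Function.Bijective χ := by
    refine ⟨fun a b h => ?_, fun z => ?_⟩
    · let t : Coh.structureModule X ⟶ Coh.structureModule X := M1.secHom (show Γ(Coh.structureModule X, ⊤) from a)
      let t' : Coh.structureModule X ⟶ Coh.structureModule X := M1.secHom (show Γ(Coh.structureModule X, ⊤) from b)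
      have h1 : t ≫ ClSub.toSubscheme J = t' ≫ ClSub.toSubscheme J := by
        rw [← Amp.secHom_gval (t ≫ ClSub.toSubscheme J), ← Amp.secHom_gval (t' ≫ ClSub.toSubscheme J),
          Amp.gval_comp, Amp.gval_comp, Amp.gval_secHom, Amp.gval_secHom]
        exact congrArg M1.secHom h
      have := congrArg (fun f => Amp.gval f) (hb.1 h1)
      simpa only [t, t', Amp.gval_secHom] using this
    · obtain ⟨t, ht⟩ := hb.2 (M1.secHom (show Γ(ClSub.quotMod J, ⊤) from z))
      refine ⟨Amp.gval t, ?_⟩
      have h1 := congrArg (fun f => Amp.gval f) ht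
      simp only [Amp.gval_comp, Amp.gval_secHom] at h1
      exact h1
  haveI : Nonempty ((⊤ : X.Opens)) := ⟨⟨Classical.arbitrary X, trivial⟩⟩
  haveI : Nontrivial Γ(X, ⊤) := Scheme.component_nontrivial X ⊤
  haveI : Nontrivial Γ(J.subscheme, ⊤) := hχ.1.nontrivial
  haveI : Nonempty J.subscheme := by
    by_contra hne
    rw [not_nonempty_iff] at hne
    refine not_subsingleton Γ(J.subscheme, ⊤) ⟨fun a b => ?_⟩
    exact TopCat.Presheaf.section_ext J.subscheme.sheaf ⊤ a b fun z _ => hne.elim z
  haveI : PreconnectedSpace J.subscheme.toLocallyRingedSpace := by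
    refine (S4495.result J.subscheme.toLocallyRingedSpace).2 fun d hd => ?_
    obtain ⟨c, rfl⟩ := hχ.2 d
    have hc : IsIdempotentElem c := hχ.1 (by rw [map_mul]; exact hd)
    rcases (S4495.result X.toLocallyRingedSpace).1 (show PreconnectedSpace X from inferInstance) c hc with h | h
    · exact .inl (by rw [h, map_zero])
    · exact .inr (by rw [h, map_one])
  haveI : ConnectedSpace J.subscheme :=
    { toPreconnectedSpace := (show PreconnectedSpace J.subscheme.toLocallyRingedSpace from inferInstance)
      toNonempty := inferInstance }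
  have h := isConnected_range J.subschemeι.continuous
  rwa [Scheme.IdealSheafData.range_subschemeι, Scheme.IdealSheafData.support_pow_succ] at h

end Groth.Agent.AffCompl
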