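import Groth.Agent.S6881
import Groth.Agent.Lib.IntClosFin.Main
import Mathlib

/-!
# Integral closures of polynomial rings in a finite extension are cut out by finitely many functionals
-/

universe u

namespace Groth.Agent.AffCompl

open Set

variable {k K : Type u} [Field k] [Field K] [Algebra k K] {d : ℕ}

/-- The polynomial ring on a tuple. -/
abbrev polyAlg (z : Fin d → K) : Subalgebra k K := Algebra.adjoin k (range z)

/-- Its integral closure. -/
abbrev clos (z : Fin d → K) : Subalgebra (polyAlg (k := k) z) K := integralClosure (polyAlg (k := k) z) K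

theorem polyAlg_normal {z : Fin d → K} (hz : AlgebraicIndependent k z) :
    IsNoetherianRing (polyAlg (k := k) z) ∧ IsIntegrallyClosed (polyAlg (k := k) z) := by
  let e : MvPolynomial (Fin d) k ≃+* polyAlg (k := k) z := hz.aevalEquiv.toRingEquiv
  exact ⟨isNoetherianRing_of_ringEquiv _ e, IsIntegrallyClosed.of_equiv e⟩

theorem aeval_mem (z : Fin d → K) (r : MvPolynomial (Fin d) k) : MvPolynomial.aeval z r ∈ polyAlg (k := k) z :=
  (Algebra.adjoin_range_eq_range_aeval k z).ge ⟨r, rfl⟩

/-- Functionals over `F` with values in `polyAlg z` on the integral closure. -/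
def Admissible (F : IntermediateField k K) (z : Fin d → K) (ψ : K →ₗ[F] F) : Prop :=
  ∀ b ∈ clos (k := k) z, (ψ b : K) ∈ polyAlg (k := k) z

variable {F : IntermediateField k K} [FiniteDimensional F K] {z : Fin d → K}

theorem finite_clos (hz : AlgebraicIndependent k z) (hF : IntermediateField.adjoin k (range z) = F) :
    Module.Finite (polyAlg (k := k) z) (clos (k := k) z) := by
  subst hF
  let A := polyAlg (k := k) z
  let F := IntermediateField.adjoin k (range z)
  have hle : A ≤ F.toSubalgebra := IntermediateField.algebra_adjoin_le_adjoin k _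
  letI : Algebra A F := (Subalgebra.inclusion hle).toRingHom.toAlgebra
  haveI : IsScalarTower A F K := IsScalarTower.of_algebraMap_eq fun _ => rfl
  haveI : FaithfulSMul A F := (faithfulSMul_iff_algebraMap_injective A F).2 (Subalgebra.inclusion_injective hle)
  haveI : IsFractionRing A F := by
    refine IsFractionRing.of_field A F fun x => ?_
    obtain ⟨r, s, hrs⟩ := IntermediateField.mem_adjoin_range_iff k z (x : K) |>.1 x.2
    exact ⟨⟨_, aeval_mem z r⟩, ⟨_, aeval_mem z s⟩, Subtype.ext hrs⟩
  haveI : Algebra.FiniteType k A := (Subalgebra.fg_iff_finiteType _).1 (Subalgebra.fg_adjoin_finset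
    (R := k) (s := (Set.finite_range z).toFinset) |> fun h => by simpa using h)
  exact IntClosFin.finite_integralClosure k A F K

/-- Finitely many admissible functionals generate all of them, and they detect integrality. -/
theorem exists_dual (hz : AlgebraicIndependent k z) (hF : IntermediateField.adjoin k (range z) = F) :
    (∃ (r : ℕ) (φ : Fin r → (K →ₗ[F] F)), (∀ l, Admissible F z (φ l)) ∧
      ∀ ψ, Admissible F z ψ → ∃ c : Fin r → F, (∀ l, (c l : K) ∈ polyAlg (k := k) z) ∧ ψ = ∑ l, c l • φ l) ∧
    ∀ b : K, (∀ ψ, Admissible F z ψ → (ψ b : K) ∈ polyAlg (k := k) z) → b ∈ clos (k := k) z := by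
  classical
  haveI := finite_clos hz hF
  subst hF
  obtain ⟨_, _⟩ := polyAlg_normal hz
  let A := polyAlg (k := k) z
  let F := IntermediateField.adjoin k (range z)
  have hle : A ≤ F.toSubalgebra := IntermediateField.algebra_adjoin_le_adjoin k _
  letI : Algebra A F := (Subalgebra.inclusion hle).toRingHom.toAlgebra
  haveI : IsScalarTower A F K := IsScalarTower.of_algebraMap_eq fun _ => rfl
  haveI : FaithfulSMul A F := (faithfulSMul_iff_algebraMap_injective A F).2 (Subalgebra.inclusion_injective hle)
  haveI : IsFractionRing A F := by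
    refine IsFractionRing.of_field A F fun x => ?_
    obtain ⟨r, s, hrs⟩ := IntermediateField.mem_adjoin_range_iff k z (x : K) |>.1 x.2
    exact ⟨⟨_, aeval_mem z r⟩, ⟨_, aeval_mem z s⟩, Subtype.ext hrs⟩
  let B := clos (k := k) z
  haveI : Module.IsReflexive A B := S6881.result A F K
  haveI : IsLocalization (Algebra.algebraMapSubmonoid B (nonZeroDivisors A)) K :=
    IsIntegralClosure.isLocalization A F K B
  let ι : B →ₗ[A] K := (IsScalarTower.toAlgHom A B K).toLinearMap
  haveI : IsLocalizedModule (nonZeroDivisors A) ι := isLocalizedModule_iff_isLocalization.2 inferInstance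
  -- restriction
  have hres : ∀ ψ : K →ₗ[F] F, Admissible F z ψ → ∃ g : Module.Dual A B, ∀ b : B, algebraMap A F (g b) = ψ b :=
    fun ψ hψ => by
      let g : Module.Dual A B :=
        { toFun := fun b => (⟨ψ (b : K), hψ _ b.2⟩ : A)
          map_add' := ?_
          map_smul' := ?_ }
      refine ⟨g, fun b => Subtype.ext rfl⟩
      · intro a b
        refine Subtype.ext ?_
        show ((ψ ((a : K) + (b : K)) : F) : K) = _
        rw [map_add]; rfl
      · intro a b
        refine Subtype.ext ?_
        show ((ψ ((algebraMap A F a : F) • (b : K)) : F) : K) = _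
        rw [map_smul]; rfl
  -- extension
  have hG : ∀ _ : Module.Dual A B, ∀ s : nonZeroDivisors A, IsUnit (algebraMap A (Module.End A F) s) := fun _ s => by
    rw [Module.End.isUnit_iff]
    have hs : algebraMap A F s ≠ 0 :=
      IsFractionRing.to_map_ne_zero_of_mem_nonZeroDivisors s.2
    refine ⟨fun a b h => ?_, fun b => ⟨(algebraMap A F s)⁻¹ * b, ?_⟩⟩
    · simpa [Algebra.smul_def, hs] using h
    · simp [Algebra.smul_def, hs]
  have hext : ∀ g : Module.Dual A B, ∃ ψ : K →ₗ[F] F, Admissible F z ψ ∧ ∀ b : B, ψ b = algebraMap A F (g b) := by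
    intro g
    let G := IsLocalizedModule.lift (nonZeroDivisors A) ι ((Algebra.linearMap A F).comp g)
      (hG g)
    let ψ : K →ₗ[F] F := G.extendScalarsOfIsLocalization (nonZeroDivisors A) F
    have hψ : ∀ b : B, ψ b = algebraMap A F (g b) := fun b => IsLocalizedModule.lift_apply (nonZeroDivisors A) ι ((Algebra.linearMap A F).comp g) (hG g) b
    exact ⟨ψ, fun b hb => by rw [hψ ⟨b, hb⟩]; exact (g ⟨b, hb⟩).2, hψ⟩
  -- injectivity
  have huniq : ∀ ψ ψ' : K →ₗ[F] F, (∀ b : B, ψ b = ψ' b) → ψ = ψ' := by
    intro ψ ψ' h
    refine LinearMap.ext fun x => ?_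
    obtain ⟨⟨b, s⟩, hbs⟩ := IsLocalizedModule.surj (nonZeroDivisors A) ι x
    have hs : algebraMap A F s ≠ 0 := IsFractionRing.to_map_ne_zero_of_mem_nonZeroDivisors s.2
    have hb : (algebraMap A F s) • x = (b : K) := hbs
    refine smul_right_injective F hs ?_
    show algebraMap A F s • ψ x = algebraMap A F s • ψ' x
    rw [← map_smul, ← map_smul, hb]
    exact h b
  constructor
  · obtain ⟨r, g, hg⟩ := Module.Finite.exists_fin (R := A) (M := Module.Dual A B)
    choose φ hφ hφg using fun l => hext (g l)
    refine ⟨r, φ, hφ, fun ψ hψ => ?_⟩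
    obtain ⟨h, hh⟩ := hres ψ hψ
    obtain ⟨c, hc⟩ := (Submodule.mem_span_range_iff_exists_fun A).1 (hg.ge (Submodule.mem_top (x := h)))
    refine ⟨fun l => algebraMap A F (c l), fun l => (c l).2, huniq _ _ fun b => ?_⟩
    rw [LinearMap.sum_apply, ← hh b, ← hc, LinearMap.sum_apply, map_sum]
    refine Finset.sum_congr rfl fun l _ => ?_
    rw [LinearMap.smul_apply, LinearMap.smul_apply, hφg l b, smul_eq_mul, map_mul, smul_eq_mul]
  · intro b hb
    choose φ hφ hφg using hext
    have hlin : ∀ (a : A) g g', φ (a • g + g') = algebraMap A F a • φ g + φ g' := fun a g g' =>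
      huniq _ _ fun x => by
        simp only [LinearMap.add_apply, LinearMap.smul_apply, hφg, smul_eq_mul, map_add, map_mul]
    have h0 : φ 0 = 0 := huniq _ _ fun x => by simp [hφg]
    let ev : Module.Dual A (Module.Dual A B) :=
      { toFun := fun g => ⟨φ g b, hb _ (hφ g)⟩
        map_add' := fun g g' => Subtype.ext (by
          have := hlin 1 g g'
          rw [one_smul, map_one, one_smul] at this
          show ((φ (g + g') b : F) : K) = _
          rw [this]; rfl)
        map_smul' := fun a g => Subtype.ext (by
          have := hlin a g 0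
          rw [add_zero, h0, add_zero] at this
          show ((φ (a • g) b : F) : K) = _
          rw [this]; rfl) }
    obtain ⟨b', hb'⟩ := (Module.bijective_dual_eval A B).2 ev
    have key : ∀ g : Module.Dual A B, φ g (b - (b' : K)) = 0 := fun g => by
      rw [map_sub, hφg g b', sub_eq_zero]
      exact Subtype.ext (congrArg (fun a : A => (a : K)) (LinearMap.congr_fun hb' g)).symm
    obtain ⟨⟨c, s⟩, hcs⟩ := IsLocalizedModule.surj (nonZeroDivisors A) ι (b - (b' : K))
    have hs : algebraMap A F s ≠ 0 := IsFractionRing.to_map_ne_zero_of_mem_nonZeroDivisors s.2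
    have hcs' : (algebraMap A F s) • (b - (b' : K)) = (c : K) := hcs
    have hc : c = 0 := (Module.bijective_dual_eval A B).1 (LinearMap.ext fun g => by
      rw [map_zero]
      refine IsFractionRing.injective A F ?_
      rw [Module.Dual.eval_apply, ← hφg g c, ← hcs', map_smul, key g, smul_zero, LinearMap.zero_apply, map_zero])
    rw [hc] at hcs'
    have : b = b' := sub_eq_zero.1 ((smul_eq_zero.1 hcs').resolve_left hs)
    rw [this]
    exact b'.2

end Groth.Agent.AffCompl
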