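import Groth.Agent.Lib.AffCompl.Charts

/-!
# The valuations at infinity of a function field of dimension at least two form a connected family
-/

universe u

namespace Groth.Agent.AffCompl

open Set IntermediateField MvPolynomial

variable {k K : Type u} [Field k] [Field K] [Algebra k K] {d : ℕ} {y : Fin d → K}

/-- The parameter at infinity in the chart `i`. -/
noncomputable def tEl (y : Fin d → K) (i : Fin d) : clos (k := k) (zt y i) :=
  algebraMap (polyAlg (k := k) (zt y i)) _ ⟨zt y i i, zt_mem i i⟩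

theorem coe_tEl (i : Fin d) : ((tEl (k := k) y i : clos (k := k) (zt y i)) : K) = (y i)⁻¹ := zt_self i

/-- `V` is centred at the prime `p`. -/
def Centred {R : Type u} [CommRing R] [Algebra R K] {B : Subalgebra R K} (V : ValuationSubring K) (p : PrimeSpectrum B) : Prop :=
  (∀ b : B, (b : K) ∈ V) ∧ ∀ b : B, b ∈ p.asIdeal ↔ V.valuation (b : K) < 1

theorem exists_centred {R : Type u} [CommRing R] [Algebra R K] {B : Subalgebra R K} (p : PrimeSpectrum B) :
    ∃ V : ValuationSubring K, Centred V p := by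
  let P : Ideal B.toSubring := p.asIdeal
  haveI : P.IsPrime := p.isPrime
  obtain ⟨V, hle, hloc⟩ := (LocalSubring.ofPrime B.toSubring P).exists_le_valuationSubring
  have hB : ∀ b : B, (b : K) ∈ V := fun b => hle (LocalSubring.le_ofPrime _ P b.2)
  refine ⟨V, hB, fun b => ?_⟩
  rw [show (V.valuation (b : K) < 1) ↔ (⟨b, hB b⟩ : V) ∈ IsLocalRing.maximalIdeal V from (V.valuation_lt_one_iff ⟨b, hB b⟩).symm,
    IsLocalRing.mem_maximalIdeal, mem_nonunits_iff]
  haveI := hloc
  have h1 : IsUnit (algebraMap B.toSubring (LocalSubring.ofPrime B.toSubring P).toSubring b) ↔ b ∉ P :=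
    IsLocalization.AtPrime.isUnit_to_map_iff _ P b
  refine ⟨fun hb hu => h1.1 (IsUnit.of_map (Subring.inclusion hle) _ hu) hb, fun hu => ?_⟩
  by_contra hb
  exact hu ((h1.2 hb).map (Subring.inclusion hle))

theorem mem_of_polyAlg (V : ValuationSubring K) (hk : ∀ c : k, algebraMap k K c ∈ V) {s : Set K}
    (hs : ∀ x ∈ s, x ∈ V) {f : K} (hf : f ∈ Algebra.adjoin k s) : f ∈ V := by
  induction hf using Algebra.adjoin_induction with
  | mem x hx => exact hs x hx
  | algebraMap r => exact hk r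
  | add x z _ _ hx hz => exact V.add_mem _ _ hx hz
  | mul x z _ _ hx hz => exact V.mul_mem _ _ hx hz

theorem mem_of_integral (V : ValuationSubring K) {A : Subalgebra k K} (hA : ∀ a ∈ A, a ∈ V) {f : K}
    (hf : IsIntegral A f) : f ∈ V := by
  let j : A →+* V := A.val.toRingHom.codRestrict V.toSubring fun a => hA _ a.2
  have h : IsIntegral V f := by
    obtain ⟨p, hp, hpf⟩ := hf
    refine ⟨p.map j, hp.map _, ?_⟩
    rw [Polynomial.eval₂_map, ← hpf]
    rfl
  obtain ⟨v, hv⟩ := IsIntegrallyClosed.isIntegral_iff.1 h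
  rw [← hv]
  exact v.2

theorem isIntegral_of_mem_all {f : K} (h : ∀ V : ValuationSubring K, (∀ c : k, algebraMap k K c ∈ V) → f ∈ V) :
    IsIntegral k f := by
  have h1 : f ∈ (⨅ V : {V : ValuationSubring K // range (algebraMap k K) ⊆ V.toSubring}, V.1.toSubring) := by
    rw [Subring.mem_iInf]
    exact fun V => h V.1 fun c => V.2 ⟨c, rfl⟩
  rw [iInf_valuationSubring_superset] at h1
  obtain ⟨p, hp, hpf⟩ := (h1 : IsIntegral (Subring.closure (range (algebraMap k K))) f)
  have hl : (p.map (Subring.subtype _)) ∈ Polynomial.lifts (algebraMap k K) := by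
    refine (Polynomial.lifts_iff_coeff_lifts _).2 fun n => ?_
    rw [Polynomial.coeff_map]
    exact (Subring.closure_le (t := (algebraMap k K).range)).2 (fun x hx => hx) (p.coeff n).2
  obtain ⟨q, hq, -, hqm⟩ := Polynomial.lifts_and_degree_eq_and_monic hl (hp.map _)
  refine ⟨q, hqm, ?_⟩
  rw [← Polynomial.eval_map, hq, Polynomial.eval_map]
  exact hpf

theorem eq_zero_of_isIntegral_of_valuation_lt {e : K} (he : IsIntegral k e) (V : ValuationSubring K)
    (hk : ∀ c : k, algebraMap k K c ∈ V) (h : V.valuation e < 1) : e = 0 := by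
  by_contra h0
  have hle : ∀ f ∈ Algebra.adjoin k ({e} : Set K), f ∈ V := fun f hf =>
    mem_of_polyAlg V hk (fun x hx => by rw [Set.mem_singleton_iff.1 hx]; exact (V.valuation_le_one_iff e).1 h.le) hf
  have hinv : e⁻¹ ∈ V := hle _
    (Subalgebra.inv_mem_of_algebraic (A := Algebra.adjoin k ({e} : Set K))
      (x := ⟨e, Algebra.subset_adjoin rfl⟩) he.isAlgebraic)
  have := (V.valuation_le_one_iff _).2 hinv
  rw [map_inv₀] at this
  exact not_lt.2 this ((one_lt_inv₀ (zero_lt_iff.2 ((map_ne_zero V.valuation).2 h0))).2 h)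

theorem exists_chart (V : ValuationSubring K) (hk : ∀ c : k, algebraMap k K c ∈ V) (h : ∃ i, y i ∉ V) :
    ∃ i, (∀ b : clos (k := k) (zt y i), (b : K) ∈ V) ∧ V.valuation ((y i)⁻¹) < 1 := by
  obtain ⟨i₀, hi₀⟩ := h
  haveI : Nonempty (Fin d) := ⟨i₀⟩
  obtain ⟨i, -, hi⟩ := Finset.exists_max_image Finset.univ (fun i => V.valuation (y i)) Finset.univ_nonempty
  have h1 : 1 < V.valuation (y i) :=
    lt_of_lt_of_le (not_le.1 fun h => hi₀ ((V.valuation_le_one_iff _).1 h)) (hi i₀ (Finset.mem_univ _))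
  have ht : V.valuation ((y i)⁻¹) < 1 := by rw [map_inv₀]; exact inv_lt_one_of_one_lt₀ h1
  refine ⟨i, fun b => mem_of_integral V (fun a ha => mem_of_polyAlg V hk ?_ ha) b.2, ht⟩
  rintro _ ⟨j, rfl⟩
  rw [← V.valuation_le_one_iff]
  rcases eq_or_ne j i with rfl | hj
  · rw [zt_self]; exact ht.le
  · rw [zt_of_ne hj, map_div₀, div_le_one₀ (zero_lt_one.trans h1)]
    exact hi j (Finset.mem_univ _)

/-- An idempotent modulo `t ^ n` separating two closed pieces of `t = 0`. -/
theorem exists_idem {B : Type u} [CommRing B] (t : B) {C C' : Set (PrimeSpectrum B)} (hC : IsClosed C)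
    (hC' : IsClosed C') (hdisj : ∀ p : PrimeSpectrum B, t ∈ p.asIdeal → ¬(p ∈ C ∧ p ∈ C'))
    (hcov : ∀ p : PrimeSpectrum B, t ∈ p.asIdeal → p ∈ C ∨ p ∈ C') {n : ℕ} (hn : n ≠ 0) :
    ∃ e : B, e * e - e ∈ Ideal.span {t ^ n} ∧ ∀ p : PrimeSpectrum B, t ∈ p.asIdeal → (e ∉ p.asIdeal ↔ p ∈ C) := by
  let π := Ideal.Quotient.mk (Ideal.span {t ^ n})
  have ht : ∀ q, t ∈ (PrimeSpectrum.comap π q).asIdeal := fun q =>
    q.isPrime.mem_of_pow_mem n (by
      show π t ^ n ∈ q.asIdeal
      rw [← map_pow, Ideal.Quotient.eq_zero_iff_mem.2 (Ideal.mem_span_singleton_self _)]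
      exact zero_mem _)
  have hcl : IsClopen (PrimeSpectrum.comap π ⁻¹' C) := by
    refine ⟨hC.preimage (PrimeSpectrum.continuous_comap π), ?_⟩
    have h : PrimeSpectrum.comap π ⁻¹' C = (PrimeSpectrum.comap π ⁻¹' C')ᶜ := Set.ext fun q =>
      ⟨fun h h' => hdisj _ (ht q) ⟨h, h'⟩, fun h => (hcov _ (ht q)).resolve_right h⟩
    rw [h]
    exact (hC'.preimage (PrimeSpectrum.continuous_comap π)).isOpen_compl
  obtain ⟨ē, hē, hs⟩ := PrimeSpectrum.exists_idempotent_basicOpen_eq_of_isClopen hcl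
  obtain ⟨e, rfl⟩ := Ideal.Quotient.mk_surjective ē
  refine ⟨e, Ideal.Quotient.eq.1 ((map_mul π e e).trans hē), fun p hp => ?_⟩
  obtain ⟨q, rfl⟩ : p ∈ Set.range (PrimeSpectrum.comap π) := by
    rw [range_comap_of_surjective _ _ Ideal.Quotient.mk_surjective, Ideal.mk_ker,
      PrimeSpectrum.zeroLocus_span, PrimeSpectrum.mem_zeroLocus, Set.singleton_subset_iff]
    exact p.asIdeal.pow_mem_of_mem hp n (Nat.pos_of_ne_zero hn)
  have := Set.ext_iff.1 hs q
  rw [Set.mem_preimage, SetLike.mem_coe, PrimeSpectrum.mem_basicOpen] at this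
  exact this.symm

/-- Linear equations of the image of finitely many functionals. -/
theorem exists_equations (y : Fin d → K) {F : IntermediateField k K} (hF : IntermediateField.adjoin k (range y) = F)
    {r : ℕ} (φ : Fin r → (K →ₗ[F] F)) :
    ∃ (p : ℕ) (Λ : Fin p → Fin r → MvPolynomial (Fin d) k),
      (∀ m x, ∑ l, aeval y (Λ m l) * (φ l x : K) = 0) ∧
      ∀ g : Fin r → F, (∀ m, ∑ l, aeval y (Λ m l) * (g l : K) = 0) → ∃ e, ∀ l, φ l e = g l := by
  classical
  subst hF
  let F := IntermediateField.adjoin k (range y)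
  let Φ : K →ₗ[F] (Fin r → F) := LinearMap.pi φ
  let bQ := Module.finBasis F ((Fin r → F) ⧸ LinearMap.range Φ)
  let π : (Fin r → F) →ₗ[F] (Fin _ → F) := bQ.equivFun.toLinearMap.comp (LinearMap.range Φ).mkQ
  have hker : ∀ g, π g = 0 ↔ g ∈ LinearMap.range Φ := fun g => by simp [π]
  let c : Fin _ → Fin r → F := fun m l => π (Pi.single l 1) m
  have hπ : ∀ g m, π g m = ∑ l, g l * c m l := fun g m => by
    conv_lhs => rw [← Finset.univ_sum_single g]
    rw [map_sum, Finset.sum_apply]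
    refine Finset.sum_congr rfl fun l _ => ?_
    have e : (Pi.single l (g l) : Fin r → F) = g l • Pi.single l (1 : F) := by
      funext x; simp [Pi.single_apply]
    rw [e, map_smul, Pi.smul_apply, smul_eq_mul]
  have hfr : ∀ x : F, ∃ a b : MvPolynomial (Fin d) k, aeval y b ≠ 0 ∧ aeval y b * (x : K) = aeval y a := fun x => by
    obtain ⟨a, b, hab⟩ := (IntermediateField.mem_adjoin_range_iff k y (x : K)).1 x.2
    rcases eq_or_ne (aeval y b) 0 with hb | hb
    · exact ⟨0, 1, by simp, by rw [hab, hb, div_zero, mul_zero, map_zero]⟩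
    · exact ⟨a, b, hb, by rw [hab, mul_div_cancel₀ _ hb]⟩
  choose num den hden hnum using fun m l => hfr (c m l)
  let D := fun m => ∏ l, den m l
  let Λ := fun m l => num m l * ∏ l' ∈ Finset.univ.erase l, den m l'
  have hΛ : ∀ m l, aeval y (Λ m l) = aeval y (D m) * (c m l : K) := fun m l => by
    simp only [D, Λ, ← Finset.mul_prod_erase Finset.univ (den m) (Finset.mem_univ l), map_mul, ← hnum m l]
    ring
  have hsum : ∀ (g : Fin r → F) m, ∑ l, aeval y (Λ m l) * (g l : K) = aeval y (D m) * (π g m : K) := fun g m => by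
    rw [hπ, AddSubmonoidClass.coe_finsetSum, Finset.mul_sum]
    refine Finset.sum_congr rfl fun l _ => ?_
    rw [hΛ]
    push_cast
    ring
  refine ⟨_, Λ, fun m x => ?_, fun g hg => ?_⟩
  · show ∑ l, aeval y (Λ m l) * ((Φ x l : F) : K) = 0
    rw [hsum (Φ x) m, congrFun ((hker _).2 ⟨x, rfl⟩) m, Pi.zero_apply, ZeroMemClass.coe_zero, mul_zero]
  · have h0 : π g = 0 := funext fun m => by
      have h := hg m
      rw [hsum g m, mul_eq_zero] at h
      refine Subtype.ext (h.resolve_left ?_)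
      simp only [D, map_prod]
      exact Finset.prod_ne_zero_iff.2 fun l _ => hden m l
    obtain ⟨e, he⟩ := (hker g).1 h0
    exact ⟨e, fun l => congrFun he l⟩

variable {F : IntermediateField k K} [FiniteDimensional F K]

/-- The overlap estimate. -/
theorem overlap (hy : AlgebraicIndependent k y) (hF : IntermediateField.adjoin k (range y) = F)
    (χ : ValuationSubring K → Prop) {n : ℕ} {i j : Fin d} (hij : i ≠ j)
    (ei : clos (k := k) (zt y i)) (ej : clos (k := k) (zt y j))
    (hei : ei * ei - ei ∈ Ideal.span {tEl y i ^ n}) (hej : ej * ej - ej ∈ Ideal.span {tEl y j ^ n})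
    (hci : ∀ p, tEl y i ∈ p.asIdeal → ∀ V, Centred V p → (ei ∉ p.asIdeal ↔ χ V))
    (hcj : ∀ p, tEl y j ∈ p.asIdeal → ∀ V, Centred V p → (ej ∉ p.asIdeal ↔ χ V))
    (ψ : K →ₗ[F] F) {M : ℕ} (hψ : ∀ b ∈ clos (k := k) (zt y i), (ψ b : K) ∈ W (k := k) y i (-(M : ℤ))) :
    ∃ (N r : ℕ) (q : MvPolynomial (Fin d) k), (q.totalDegree : ℤ) + ((n : ℤ) - M) ≤ N + r ∧
      ((ψ (ei : K) : K) - (ψ (ej : K) : K)) * (y i ^ N * y j ^ r) = aeval y q := by
  classical
  subst hF
  have hi := hy.ne_zero i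
  have hj := hy.ne_zero j
  let A : Subalgebra k K := Algebra.adjoin k (range (zt y i) ∪ range (zt y j))
  have hAi : polyAlg (k := k) (zt y i) ≤ A := Algebra.adjoin_mono Set.subset_union_left
  have hAj : polyAlg (k := k) (zt y j) ≤ A := Algebra.adjoin_mono Set.subset_union_right
  let B := integralClosure A K
  have lift : ∀ (A' : Subalgebra k K), A' ≤ A → ∀ f, IsIntegral A' f → f ∈ B := fun A' hA f hf => by
    obtain ⟨p, hp, hpf⟩ := hf
    refine ⟨p.map (Subalgebra.inclusion hA).toRingHom, hp.map _, ?_⟩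
    rw [Polynomial.eval₂_map, ← hpf]
    rfl
  have bi : ∀ b : clos (k := k) (zt y i), (b : K) ∈ B := fun b => lift _ hAi _ b.2
  have bj : ∀ b : clos (k := k) (zt y j), (b : K) ∈ B := fun b => lift _ hAj _ b.2
  let ι₁ : clos (k := k) (zt y i) →+* B :=
    ((clos (k := k) (zt y i)).val.toRingHom).codRestrict B bi
  let ι₂ : clos (k := k) (zt y j) →+* B :=
    ((clos (k := k) (zt y j)).val.toRingHom).codRestrict B bj
  let T := ι₁ (tEl y i)
  have hs : (zt y i j) ∈ polyAlg (k := k) (zt y i) := zt_mem i j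
  have hu : (zt y j i) ∈ B := lift _ hAj _ (isIntegral_algebraMap (R := polyAlg (k := k) (zt y j)) (x := ⟨_, zt_mem j i⟩))
  have hv : (zt y i j) ∈ B := lift _ hAi _ (isIntegral_algebraMap (R := polyAlg (k := k) (zt y i)) (x := ⟨_, hs⟩))
  have hT₂ : ι₂ (tEl y j) = T * ⟨_, hu⟩ := Subtype.ext (by
    show ((tEl y j : clos (k := k) (zt y j)) : K) = ((tEl y i : clos (k := k) (zt y i)) : K) * zt y j i
    rw [coe_tEl, coe_tEl, zt_of_ne hij]
    field_simp)
  have hT₁ : T = ι₂ (tEl y j) * ⟨_, hv⟩ := Subtype.ext (by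
    show ((tEl y i : clos (k := k) (zt y i)) : K) = ((tEl y j : clos (k := k) (zt y j)) : K) * zt y i j
    rw [coe_tEl, coe_tEl, zt_of_ne hij.symm]
    field_simp)
  have hI : ∀ {b}, b ∈ Ideal.span {(ι₂ (tEl y j)) ^ n} → b ∈ Ideal.span {T ^ n} := fun hb => by
    rw [Ideal.mem_span_singleton] at hb ⊢
    exact (Dvd.intro _ (by rw [hT₂, mul_pow])).trans hb
  let π := Ideal.Quotient.mk (Ideal.span {T ^ n})
  have h₁ : IsIdempotentElem (π (ι₁ ei)) := by
    show π (ι₁ ei) * π (ι₁ ei) = π (ι₁ ei)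
    rw [← map_mul, ← map_mul, Ideal.Quotient.eq, ← map_sub]
    have := Ideal.mem_map_of_mem ι₁ hei
    rwa [Ideal.map_span, Set.image_singleton, map_pow] at this
  have h₂ : IsIdempotentElem (π (ι₂ ej)) := by
    show π (ι₂ ej) * π (ι₂ ej) = π (ι₂ ej)
    rw [← map_mul, ← map_mul, Ideal.Quotient.eq, ← map_sub]
    refine hI ?_
    have := Ideal.mem_map_of_mem ι₂ hej
    rwa [Ideal.map_span, Set.image_singleton, map_pow] at this
  have hnil : IsNilpotent (π (ι₁ ei) - π (ι₂ ej)) := by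
    refine (nilpotent_iff_mem_prime (R := B ⧸ Ideal.span {T ^ n})).2 fun Q hQ => ?_
    haveI : Q.IsPrime := hQ
    let P : PrimeSpectrum B := ⟨Q.comap π, inferInstance⟩
    have hTP : T ∈ P.asIdeal := P.isPrime.mem_of_pow_mem n (by
      show π (T ^ n) ∈ Q
      rw [Ideal.Quotient.eq_zero_iff_mem.2 (Ideal.mem_span_singleton_self _)]
      exact Q.zero_mem)
    obtain ⟨V, hV⟩ := exists_centred P
    have c₁ := hci (PrimeSpectrum.comap ι₁ P) hTP V ⟨fun b => hV.1 (ι₁ b), fun b => hV.2 (ι₁ b)⟩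
    have c₂ := hcj (PrimeSpectrum.comap ι₂ P) (show ι₂ (tEl y j) ∈ P.asIdeal by rw [hT₂]; exact P.asIdeal.mul_mem_right _ hTP)
      V ⟨fun b => hV.1 (ι₂ b), fun b => hV.2 (ι₂ b)⟩
    have c : π (ι₁ ei) ∉ Q ↔ π (ι₂ ej) ∉ Q := c₁.trans c₂.symm
    by_cases h : π (ι₁ ei) ∈ Q
    · exact Q.sub_mem h (by by_contra h'; exact c.2 h' h)
    · have e1 : ∀ x, IsIdempotentElem x → x ∉ Q → 1 - x ∈ Q := fun x hx hxQ =>
        ((hQ : Q.IsPrime).mem_or_mem (show x * (1 - x) ∈ Q by rw [mul_sub, mul_one, hx.eq, sub_self]; exact Q.zero_mem)).resolve_left hxQ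
      have := Q.sub_mem (e1 _ h₂ (c.1 h)) (e1 _ h₁ h)
      rwa [sub_sub_sub_cancel_left] at this
  have heq := eq_of_isNilpotent_sub_of_isIdempotentElem (R := B ⧸ Ideal.span {T ^ n}) h₁ h₂ hnil
  rw [Ideal.Quotient.eq, Ideal.mem_span_singleton] at heq
  obtain ⟨c, hc⟩ := heq
  -- the quotient is integral over the chart `i` up to a power of `y j / y i`
  have hA : ∀ f ∈ A, ∃ N : ℕ, zt y i j ^ N * f ∈ polyAlg (k := k) (zt y i) := by
    intro f hf
    induction hf using Algebra.adjoin_induction with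
    | mem x hx =>
      rcases hx with hx | ⟨l, rfl⟩
      · exact ⟨0, by simpa using Algebra.subset_adjoin hx⟩
      · refine ⟨1, ?_⟩
        rw [pow_one, zt_of_ne hij.symm]
        rcases eq_or_ne l j with rfl | hl
        · rw [zt_self, show y l / y i * (y l)⁻¹ = (y i)⁻¹ by field_simp, ← zt_self (y := y) i]
          exact zt_mem i i
        · rw [zt_of_ne hl, show y j / y i * (y l / y j) = y l / y i by field_simp]
          rcases eq_or_ne l i with rfl | hli
          · rw [div_self hi]; exact Subalgebra.one_mem _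
          · rw [← zt_of_ne hli]; exact zt_mem i l
    | algebraMap r => exact ⟨0, by simpa using Subalgebra.algebraMap_mem _ r⟩
    | add a b _ _ ha hb =>
      obtain ⟨N, hN⟩ := ha
      obtain ⟨N', hN'⟩ := hb
      refine ⟨N + N', ?_⟩
      rw [show zt y i j ^ (N + N') * (a + b) = zt y i j ^ N' * (zt y i j ^ N * a) + zt y i j ^ N * (zt y i j ^ N' * b) by ring]
      exact Subalgebra.add_mem _ (Subalgebra.mul_mem _ (Subalgebra.pow_mem _ hs _) hN) (Subalgebra.mul_mem _ (Subalgebra.pow_mem _ hs _) hN')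
    | mul a b _ _ ha hb =>
      obtain ⟨N, hN⟩ := ha
      obtain ⟨N', hN'⟩ := hb
      refine ⟨N + N', ?_⟩
      rw [show zt y i j ^ (N + N') * (a * b) = (zt y i j ^ N * a) * (zt y i j ^ N' * b) by ring]
      exact Subalgebra.mul_mem _ hN hN'
  obtain ⟨r, hr⟩ := exists_pow_mul_integral hs hA c.2
  obtain ⟨N, q, hq, hq'⟩ := hψ _ hr
  have hmem : ∀ l, y l ∈ IntermediateField.adjoin k (range y) := fun l => subset_adjoin k _ (Set.mem_range_self l)
  have hzj : zt y i j = y j / y i := zt_of_ne hij.symm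
  have hd : (ei : K) - (ej : K) = ((y i)⁻¹) ^ n * (c : K) := by
    have := congrArg (fun b : B => (b : K)) hc
    push_cast at this
    rw [← coe_tEl (k := k) i]
    exact this
  let s : IntermediateField.adjoin k (range y) := ⟨y i ^ r / (y i ^ n * y j ^ r),
    div_mem (pow_mem (hmem i) r) (mul_mem (pow_mem (hmem i) n) (pow_mem (hmem j) r))⟩
  have hsmul : (ei : K) - (ej : K) = s • (zt y i j ^ r * (c : K)) := by
    rw [hd, IntermediateField.smul_def, smul_eq_mul, hzj]
    show _ = y i ^ r / (y i ^ n * y j ^ r) * _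
    rw [div_pow, inv_pow]
    field_simp
  have key : (ψ (ei : K) : K) - (ψ (ej : K) : K) =
      y i ^ r / (y i ^ n * y j ^ r) * (ψ (zt y i j ^ r * (c : K)) : K) := by
    have h := congrArg (fun x => ((ψ x : IntermediateField.adjoin k (range y)) : K)) hsmul
    simp only [map_sub, map_smul, smul_eq_mul] at h
    push_cast at h
    exact h
  refine ⟨N + n, r, q * X i ^ r, ?_, ?_⟩
  · have := totalDegree_mul_X_pow q i r
    push_cast
    omega
  · have e : aeval y (q * X i ^ r) = aeval y q * y i ^ r := by simp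
    rw [key, e, ← hq', pow_add]
    field_simp

/-- **Connectedness at infinity.** -/
theorem chi_const (hd : 2 ≤ d) (hy : AlgebraicIndependent k y) (hF : IntermediateField.adjoin k (range y) = F)
    (χ : ValuationSubring K → Prop)
    (hχ : ∀ i, ∃ C C' : Set (PrimeSpectrum (clos (k := k) (zt y i))), IsClosed C ∧ IsClosed C' ∧
      ∀ p, tEl y i ∈ p.asIdeal → (p ∈ C ∨ p ∈ C') ∧ ∀ V, Centred V p → (p ∈ C → χ V) ∧ (p ∈ C' → ¬χ V))
    {V V' : ValuationSubring K} (hk : ∀ c : k, algebraMap k K c ∈ V) (hV : ∃ i, y i ∉ V)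
    (hk' : ∀ c : k, algebraMap k K c ∈ V') (hV' : ∃ i, y i ∉ V') (h : χ V) : χ V' := by
  classical
  by_contra h'
  obtain ⟨⟨r, φ, hφ, hgen⟩, hrefl⟩ := exists_dual hy hF
  obtain ⟨p, Λ, hΛ0, hΛ⟩ := exists_equations y hF φ
  choose M hM using fun i l => exists_bound hy hF i (φ l) (hφ l)
  choose C₀ hC₀ using fun i => exists_detect hy hF hgen i
  let M₀ := Finset.univ.sup fun il : Fin d × Fin r => M il.1 il.2
  let D₀ := Finset.univ.sup fun ml : Fin p × Fin r => (Λ ml.1 ml.2).totalDegree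
  let C₁ := Finset.univ.sup C₀
  have hMle : ∀ i l, ∀ b ∈ clos (k := k) (zt y i), (φ l b : K) ∈ W (k := k) y i (-(M₀ : ℤ)) := fun i l b hb =>
    W_mono (hM i l b hb) (by
      have : M i l ≤ M₀ := Finset.le_sup (f := fun il : Fin d × Fin r => M il.1 il.2) (Finset.mem_univ (i, l))
      omega)
  let n := M₀ + D₀ + C₁ + 2
  choose C C' hC hC' hχ using hχ
  have hidem : ∀ i, ∃ e : clos (k := k) (zt y i), e * e - e ∈ Ideal.span {tEl y i ^ n} ∧
      ∀ p, tEl y i ∈ p.asIdeal → ∀ V, Centred V p → (e ∉ p.asIdeal ↔ χ V) := fun i => by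
    obtain ⟨e, he, he'⟩ := exists_idem (tEl (k := k) y i) (hC i) (hC' i)
      (fun q hq hqq => by
        obtain ⟨W', hW'⟩ := exists_centred q
        exact ((hχ i q hq).2 W' hW').2 hqq.2 (((hχ i q hq).2 W' hW').1 hqq.1))
      (fun q hq => (hχ i q hq).1) (show n ≠ 0 by omega)
    refine ⟨e, he, fun q hq W' hW' => (he' q hq).trans ⟨((hχ i q hq).2 W' hW').1, fun h => ?_⟩⟩
    exact (hχ i q hq).1.resolve_right fun hq' => ((hχ i q hq).2 W' hW').2 hq' h
  choose e he hce using hidem
  have hdata : ∀ i l, ∃ N q, (q : MvPolynomial (Fin d) k).totalDegree ≤ N + M₀ ∧ (φ l (e i : K) : K) * y i ^ N = aeval y q :=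
    fun i l => by
      obtain ⟨N, q, h1, h2⟩ := hMle i l _ (e i).2
      exact ⟨N, q, by omega, h2⟩
  choose N₀ q₀ hN₀ hq₀ using hdata
  let N := Finset.univ.sup fun il : Fin d × Fin r => N₀ il.1 il.2
  let q := fun l i => q₀ i l * X i ^ (N - N₀ i l)
  have hNle : ∀ i l, N₀ i l ≤ N := fun i l => Finset.le_sup (f := fun il : Fin d × Fin r => N₀ il.1 il.2) (Finset.mem_univ (i, l))
  have hqN : ∀ l i, (q l i).totalDegree ≤ N + M₀ := fun l i => by
    have := totalDegree_mul_X_pow (q₀ i l) i (N - N₀ i l)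
    have := hN₀ i l
    have := hNle i l
    show (q₀ i l * X i ^ (N - N₀ i l)).totalDegree ≤ N + M₀
    omega
  have hqe : ∀ l i, (φ l (e i : K) : K) * y i ^ N = aeval y (q l i) := fun l i => by
    show _ = aeval y (q₀ i l * X i ^ (N - N₀ i l))
    rw [map_mul, map_pow, aeval_X, ← hq₀ i l, mul_assoc, ← pow_add, Nat.add_sub_cancel' (hNle i l)]
  have hyX : ∀ a b : MvPolynomial (Fin d) k, aeval y a = aeval y b → a = b :=
    fun a b h => algebraicIndependent_iff_injective_aeval.1 hy h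
  have htail : ∀ l, ∃ G : MvPolynomial (Fin d) k, G.totalDegree ≤ M₀ ∧
      ∀ i, ∀ a : Fin d →₀ ℕ, coeff a (q l i - G * X i ^ N) ≠ 0 → Finsupp.degree a + (n - M₀) ≤ N := fun l => by
    refine exists_tail hd (show 0 < n - M₀ by omega) (hqN l) fun i j hij a ha => ?_
    obtain ⟨N', r', P, hP, hP'⟩ := overlap hy hF χ hij (e i) (e j) (he i) (he j) (hce i) (hce j) (φ l) (hMle i l)
    have hprod : (q l i * X j ^ N - q l j * X i ^ N) * (X i ^ N' * X j ^ r') = P * X i ^ N * X j ^ N := hyX _ _ (by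
      simp only [map_mul, map_sub, map_pow, aeval_X, ← hqe, ← hP']
      ring)
    have hne : q l i * X j ^ N - q l j * X i ^ N ≠ 0 := fun h0 => ha (by rw [h0, coeff_zero])
    have hdeg : ((X i ^ N' * X j ^ r' : MvPolynomial (Fin d) k)).totalDegree = N' + r' := by
      rw [totalDegree_mul_of_isDomain (pow_ne_zero _ (X_ne_zero i)) (pow_ne_zero _ (X_ne_zero j)),
        totalDegree_X_pow, totalDegree_X_pow]
    have hpd := totalDegree_add_le_of_mul (D := 2 * N + N' + r') (m := (n : ℤ) - M₀)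
      (mul_ne_zero (pow_ne_zero _ (X_ne_zero i)) (pow_ne_zero _ (X_ne_zero j))) hdeg hne (by
        rw [hprod]
        have := totalDegree_mul_X_pow (P * X i ^ N) j N
        have := totalDegree_mul_X_pow P i N
        push_cast
        omega)
    have := (totalDegree_le_iff' _ _).1 le_rfl a ha
    omega
  choose G hGdeg hG using htail
  have htailW : ∀ i l, (φ l (e i : K) : K) - aeval y (G l) ∈ W (k := k) y i ((n : ℤ) - M₀) := fun i l => by
    rcases eq_or_ne (q l i - G l * X i ^ N) 0 with h0 | h0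
    · rw [sub_eq_zero] at h0
      have := hqe l i
      rw [h0, map_mul, map_pow, aeval_X] at this
      rw [mul_right_cancel₀ (pow_ne_zero N (hy.ne_zero i)) this, sub_self]
      exact W_zero _
    · refine ⟨N, q l i - G l * X i ^ N, ?_, by simp [sub_mul, hqe]⟩
      obtain ⟨a, ha, hmax⟩ := Finset.exists_max_image (q l i - G l * X i ^ N).support (fun a => Finsupp.degree a)
        (MvPolynomial.support_nonempty.2 h0)
      have h1 : (q l i - G l * X i ^ N).totalDegree ≤ Finsupp.degree a :=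
        (totalDegree_le_iff' _ _).2 fun b hb => hmax b (mem_support_iff.2 hb)
      have h2 := hG l i a (mem_support_iff.1 ha)
      omega
  have hGF : ∀ l, aeval y (G l) ∈ F := fun l => hF ▸ IntermediateField.algebra_adjoin_le_adjoin k _ (aeval_mem y (G l))
  have hi₀ : Fin d := ⟨0, by omega⟩
  have hlam : ∀ m, ∑ l, aeval y (Λ m l) * aeval y (G l) = 0 := fun m => by
    have h1 : ∑ l, aeval y (Λ m l) * aeval y (G l) = aeval y (∑ l, Λ m l * G l) := by simp
    have h2 : ∑ l, aeval y (Λ m l) * aeval y (G l) ∈ W (k := k) y hi₀ ((n : ℤ) - M₀ - D₀) := by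
      have h3 : ∑ l, aeval y (Λ m l) * aeval y (G l) =
          ∑ l, (algebraMap k K (-1) * aeval y (Λ m l)) * ((φ l (e hi₀ : K) : K) - aeval y (G l)) := by
        have := hΛ0 m (e hi₀ : K)
        simp only [map_neg, map_one, neg_mul, one_mul, mul_sub, Finset.sum_sub_distrib, Finset.sum_neg_distrib, this,
          neg_zero, zero_sub, neg_neg]
      rw [h3]
      refine W_sum _ fun l _ => W_mono (W_mul (W_mul (W_algebraMap (-1)) (W_aeval (Λ m l))) (htailW hi₀ l)) ?_
      have : (Λ m l).totalDegree ≤ D₀ := Finset.le_sup (f := fun ml : Fin p × Fin r => (Λ ml.1 ml.2).totalDegree) (Finset.mem_univ (m, l))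
      omega
    rw [h1] at h2
    rw [h1, eq_zero_of_aeval_mem hy h2 (by omega), map_zero]
  obtain ⟨E, hE⟩ := hΛ (fun l => ⟨_, hGF l⟩) hlam
  have hEl : ∀ l, (φ l E : K) = aeval y (G l) := fun l => by rw [hE l]
  have hE₀ : E ∈ clos (k := k) y := hrefl E fun ψ hψ => by
    obtain ⟨c, hc, rfl⟩ := hgen ψ hψ
    rw [LinearMap.sum_apply, AddSubmonoidClass.coe_finsetSum]
    refine Subalgebra.sum_mem _ fun l _ => ?_
    rw [LinearMap.smul_apply, smul_eq_mul]
    exact Subalgebra.mul_mem _ (hc l) (by rw [hEl]; exact aeval_mem y _)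
  have hnear : ∀ i, ∃ b : clos (k := k) (zt y i), E = (e i : K) + (y i)⁻¹ * (b : K) := fun i => by
    have hyi : y i ∈ F := hF ▸ subset_adjoin k _ (Set.mem_range_self i)
    have hb : (⟨y i, hyi⟩ : F) • (E - (e i : K)) ∈ clos (k := k) (zt y i) := by
      refine hC₀ i ((n : ℤ) - M₀ - 1) _ ?_ fun l => ?_
      · have : C₀ i ≤ C₁ := Finset.le_sup (Finset.mem_univ i)
        omega
      · rw [map_smul, smul_eq_mul, map_sub]
        push_cast
        rw [hEl, show y i * (aeval y (G l) - (φ l (e i : K) : K)) =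
          (algebraMap k K (-1) * y i) * ((φ l (e i : K) : K) - aeval y (G l)) by rw [map_neg, map_one]; ring]
        exact W_mono (W_mul (W_mul (W_algebraMap (-1)) (by simpa using W_pow (k := k) (y := y) (i := i) 1)) (htailW i l)) (by omega)
    refine ⟨⟨_, hb⟩, ?_⟩
    show E = (e i : K) + (y i)⁻¹ * ((⟨y i, hyi⟩ : F) • (E - (e i : K)))
    rw [IntermediateField.smul_def, smul_eq_mul, inv_mul_cancel_left₀ (hy.ne_zero i)]
    ring
  have hint : IsIntegral k E := isIntegral_of_mem_all fun W' hW' => by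
    by_cases hall : ∀ i, y i ∈ W'
    · exact mem_of_integral W' (fun a ha => mem_of_polyAlg W' hW' (by rintro _ ⟨i, rfl⟩; exact hall i) ha) hE₀
    · push Not at hall
      obtain ⟨i, hB, ht⟩ := exists_chart W' hW' hall
      obtain ⟨b, hb⟩ := hnear i
      rw [hb]
      exact W'.add_mem _ _ (hB _) (W'.mul_mem _ _ ((W'.valuation_le_one_iff _).1 ht.le) (hB b))
  have hval : ∀ (W' : ValuationSubring K), (∀ c : k, algebraMap k K c ∈ W') → (∃ i, y i ∉ W') →
      (¬χ W' → W'.valuation E < 1) ∧ (χ W' → W'.valuation (E - 1) < 1) := by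
    intro W' hW' hout
    obtain ⟨i, hB, ht⟩ := exists_chart W' hW' hout
    let B := clos (k := k) (zt y i)
    let j : B →+* W' := B.val.toRingHom.codRestrict W'.toSubring hB
    let P : PrimeSpectrum B := ⟨(IsLocalRing.maximalIdeal W').comap j, inferInstance⟩
    have hcen : Centred W' P := ⟨hB, fun b => W'.valuation_lt_one_iff (j b)⟩
    have hmem : ∀ b : B, b ∈ P.asIdeal ↔ W'.valuation (b : K) < 1 := hcen.2
    have hc := hce i P ((hmem _).2 (by rw [coe_tEl]; exact ht)) W' hcen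
    obtain ⟨b, hb⟩ := hnear i
    have htb : W'.valuation ((y i)⁻¹ * (b : K)) < 1 := by
      rw [map_mul]
      exact lt_of_le_of_lt (mul_le_of_le_one_right' ((W'.valuation_le_one_iff _).2 (hB b))) ht
    constructor
    · intro hn
      have h0 : W'.valuation (e i : K) < 1 := (hmem _).1 (by by_contra h0; exact hn (hc.1 h0))
      rw [hb]
      exact Valuation.map_add_lt _ h0 htb
    · intro hp
      have h0 : W'.valuation ((e i : K) - 1) < 1 := by
        have h1 : e i * (e i - 1) ∈ P.asIdeal := by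
          have : e i * e i - e i ∈ P.asIdeal :=
            (Ideal.span_singleton_le_iff_mem _).2 (P.asIdeal.pow_mem_of_mem ((hmem _).2 (by rw [coe_tEl]; exact ht)) n (by omega)) (he i)
          rwa [mul_sub, mul_one]
        have := (hmem _).1 ((P.isPrime.mem_or_mem h1).resolve_left (hc.2 hp))
        push_cast at this
        exact this
      rw [hb, show (e i : K) + (y i)⁻¹ * (b : K) - 1 = ((e i : K) - 1) + (y i)⁻¹ * (b : K) by ring]
      exact Valuation.map_add_lt _ h0 htb
  have e1 : E - 1 = 0 := eq_zero_of_isIntegral_of_valuation_lt (hint.sub isIntegral_one) V hk ((hval V hk hV).2 h)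
  have e0 : E = 0 := eq_zero_of_isIntegral_of_valuation_lt hint V' hk' ((hval V' hk' hV').1 h')
  simp [e0] at e1

end Groth.Agent.AffCompl
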