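import Groth.Agent.Lib.AffCompl.Main
import Groth.Agent.Lib.HensProper6.Fibres
import Groth.Agent.Lib.OmegaVar13.Basic
import Mathlib.AlgebraicGeometry.ValuativeCriterion
import Mathlib.AlgebraicGeometry.FunctionField

/-!
# The complement of an affine open in a proper variety of dimension at least two is connected
-/

universe u

set_option backward.isDefEq.respectTransparency.types false

open CategoryTheory CategoryTheory.Limits AlgebraicGeometry IsLocalRing

namespace Groth.Agent.AffCompl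

/-- The inclusion of a valuation subring. -/
noncomputable def incl {K : Type u} [Field K] (V : ValuationSubring K) : CommRingCat.of V ⟶ CommRingCat.of K :=
  CommRingCat.ofHom V.subtype

theorem incl_injective {K : Type u} [Field K] (V : ValuationSubring K) : Function.Injective (incl V).hom :=
  Subtype.val_injective

/-- Valuations lift specializations. -/
theorem exists_val_lift {K : Type u} [Field K] {P : Scheme.{u}} (j : Spec (CommRingCat.of K) ⟶ P) {γ : P}
    (h : γ ∈ closure {j (closedPoint K)}) :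
    ∃ (V : ValuationSubring K) (m : Spec (CommRingCat.of V) ⟶ P),
      Spec.map (incl V) ≫ m = j ∧ m (closedPoint V) = γ := by
  have hs : j (closedPoint K) ⤳ γ := specializes_iff_mem_closure.2 h
  let f : P.presheaf.stalk γ ⟶ CommRingCat.of K := P.presheaf.stalkSpecializes hs ≫ Scheme.stalkClosedPointTo j
  obtain ⟨V, hle, hloc⟩ := (LocalSubring.range f.hom).exists_le_valuationSubring
  let g : P.presheaf.stalk γ ⟶ CommRingCat.of V :=
    CommRingCat.ofHom (f.hom.codRestrict V.toSubring fun x => hle ⟨x, rfl⟩)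
  haveI hgl : IsLocalHom g.hom := ⟨fun x hx => by
    haveI := hloc
    have h1 : IsUnit (f.hom.rangeRestrict x) := IsUnit.of_map (Subring.inclusion hle) _ hx
    obtain ⟨⟨_, z, rfl⟩, hz⟩ := isUnit_iff_exists_inv.1 h1
    have hz' : f.hom x * f.hom z = 1 := congrArg Subtype.val hz
    by_contra hxu
    have hu : IsUnit (1 - x * z) :=
      IsLocalRing.isUnit_one_sub_self_of_mem_nonunits _ (fun hxz => hxu (isUnit_of_mul_isUnit_left hxz))
    have h0 := hu.map f.hom
    rw [map_sub, map_one, map_mul, hz', sub_self] at h0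
    exact not_isUnit_zero h0⟩
  refine ⟨V, Spec.map g ≫ P.fromSpecStalk γ, ?_, ?_⟩
  · have h1 : g ≫ incl V = f := rfl
    rw [← Spec.map_comp_assoc, h1]
    show Spec.map (P.presheaf.stalkSpecializes hs ≫ Scheme.stalkClosedPointTo j) ≫ _ = j
    rw [Spec.map_comp, Category.assoc, Scheme.SpecMap_stalkSpecializes_fromSpecStalk,
      Scheme.Spec_stalkClosedPointTo_fromSpecStalk]
  · rw [Scheme.Hom.comp_apply]
    erw [Spec_closedPoint]
    exact Scheme.fromSpecStalk_closedPoint

section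

variable {k : Type u} [Field k] {X : Scheme.{u}} (p : X ⟶ Spec (CommRingCat.of k))
  {K : Type u} [Field K] (gen : Spec (CommRingCat.of K) ⟶ X)

/-- `x` is a centre of `V` on `X`. -/
def IsCentre (V : ValuationSubring K) (x : X) : Prop :=
  ∃ l : Spec (CommRingCat.of V) ⟶ X, Spec.map (incl V) ≫ l = gen ∧ l (closedPoint V) = x

variable {p gen} (κ : CommRingCat.of k ⟶ CommRingCat.of K) (hκ : Spec.map κ = gen ≫ p)

include hκ in
theorem base_mem {V : ValuationSubring K} {x : X} (h : IsCentre gen V x) (c : k) : κ.hom c ∈ V := by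
  obtain ⟨l, hl, -⟩ := h
  obtain ⟨ψ, hψ⟩ := Spec.map_surjective (l ≫ p)
  have h1 : ψ ≫ incl V = κ := Spec.map_injective (by rw [Spec.map_comp, hψ, ← Category.assoc, hl, hκ])
  rw [← h1]
  exact (ψ.hom c).2

include hκ in
theorem centre_unique [IsSeparated p] {V : ValuationSubring K} {x x' : X} (h : IsCentre gen V x)
    (h' : IsCentre gen V x') : x = x' := by
  obtain ⟨l, hl, rfl⟩ := h
  obtain ⟨l', hl', rfl⟩ := h'
  obtain ⟨ψ, hψ⟩ := Spec.map_surjective (l ≫ p)
  obtain ⟨ψ', hψ'⟩ := Spec.map_surjective (l' ≫ p)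
  have h1 : ψ ≫ incl V = ψ' ≫ incl V := Spec.map_injective (by
    rw [Spec.map_comp, Spec.map_comp, hψ, hψ', ← Category.assoc, hl, ← Category.assoc, hl'])
  haveI : Mono (incl V) := ConcreteCategory.mono_of_injective _ (incl_injective V)
  have h2 : ψ = ψ' := (cancel_mono (incl V)).1 h1
  let Sq : ValuativeCommSq p :=
    { R := V, K := K, i₁ := gen, i₂ := Spec.map ψ,
      commSq := ⟨by
        show gen ≫ p = Spec.map (incl V) ≫ Spec.map ψ
        rw [hψ, ← Category.assoc, hl]⟩ }
  have h3 := (IsSeparated.valuativeCriterion p Sq).elim ⟨l, hl, hψ.symm⟩ ⟨l', hl', by rw [← hψ', ← h2]⟩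
  exact congrArg (fun L => L.l (closedPoint V)) h3

include hκ in
theorem exists_centre [UniversallyClosed p] (V : ValuationSubring K) (hk : ∀ c, κ.hom c ∈ V) :
    ∃ x, IsCentre gen V x := by
  let ψ : CommRingCat.of k ⟶ CommRingCat.of V := CommRingCat.ofHom (κ.hom.codRestrict V.toSubring hk)
  let Sq : ValuativeCommSq p :=
    { R := V, K := K, i₁ := gen, i₂ := Spec.map ψ,
      commSq := ⟨by
        show gen ≫ p = Spec.map (incl V) ≫ Spec.map ψ
        rw [← Spec.map_comp, ← hκ]
        rfl⟩ }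
  have hE : ValuativeCriterion.Existence p := by
    have h : UniversallyClosed p := inferInstance
    rw [UniversallyClosed.eq_valuativeCriterion] at h
    exact h.1
  obtain ⟨⟨L⟩⟩ := hE Sq
  exact ⟨_, L.l, L.fac_left, rfl⟩

/-- Centres in an affine open are detected by its ring of functions. -/
theorem sections_mem {U : X.Opens} (hU : IsAffineOpen U) (θ : Γ(X, U) ⟶ CommRingCat.of K)
    (hθ : Spec.map θ ≫ hU.fromSpec = gen) {V : ValuationSubring K} {x : X} (h : IsCentre gen V x)
    (hx : x ∈ U) (a : Γ(X, U)) : θ.hom a ∈ V := by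
  obtain ⟨l, hl, rfl⟩ := h
  have hr : Set.range l ⊆ Set.range hU.fromSpec := by
    rw [hU.range_fromSpec]
    rintro _ ⟨q, rfl⟩
    exact ((IsLocalRing.specializes_closedPoint q).map l.continuous).mem_open U.2 hx
  obtain ⟨ψ, hψ⟩ := Spec.map_surjective (IsOpenImmersion.lift hU.fromSpec l hr)
  have h1 : ψ ≫ incl V = θ := Spec.map_injective (by
    rw [← cancel_mono hU.fromSpec, hθ, Spec.map_comp, Category.assoc, hψ, IsOpenImmersion.lift_fac, hl])
  rw [← h1]
  exact (ψ.hom a).2

include hκ in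
theorem centre_mem_of_sections [IsSeparated p] {U : X.Opens} (hU : IsAffineOpen U) (θ : Γ(X, U) ⟶ CommRingCat.of K)
    (hθ : Spec.map θ ≫ hU.fromSpec = gen) {V : ValuationSubring K} {x : X} (h : IsCentre gen V x)
    (ha : ∀ a, θ.hom a ∈ V) : x ∈ U := by
  let ψ : Γ(X, U) ⟶ CommRingCat.of V := CommRingCat.ofHom (θ.hom.codRestrict V.toSubring ha)
  have h' : IsCentre gen V ((Spec.map ψ ≫ hU.fromSpec) (closedPoint V)) := by
    refine ⟨Spec.map ψ ≫ hU.fromSpec, ?_, rfl⟩
    rw [← Spec.map_comp_assoc, ← hθ]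
    rfl
  rw [centre_unique κ hκ h h', Scheme.Hom.comp_apply, ← SetLike.mem_coe, ← hU.range_fromSpec]
  exact ⟨_, rfl⟩

/-- The two pieces at infinity in one chart. -/
theorem exists_pieces [IsProper p] [Algebra k K] (hkK : CommRingCat.ofHom (algebraMap k K) = κ) (hκ : Spec.map κ = gen ≫ p)
    {d : ℕ} {y : Fin d → K} (hy : AlgebraicIndependent k y)
    [FiniteDimensional (IntermediateField.adjoin k (Set.range y)) K] {Z₁ Z₂ : Set X} (hZ₁ : IsClosed Z₁) (hZ₂ : IsClosed Z₂)
    (hdisj : Disjoint Z₁ Z₂)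
    (hout : ∀ V : ValuationSubring K, (∃ i, y i ∉ V) → ∀ x, IsCentre gen V x → x ∈ Z₁ ∪ Z₂)
    (χ : ValuationSubring K → Prop) (hχ : ∀ V x, IsCentre gen V x → ((x ∈ Z₁ → χ V) ∧ (x ∈ Z₂ → ¬χ V))) (i : Fin d) :
    ∃ C C' : Set (PrimeSpectrum (clos (k := k) (zt y i))), IsClosed C ∧ IsClosed C' ∧
      ∀ q, tEl y i ∈ q.asIdeal → (q ∈ C ∨ q ∈ C') ∧ ∀ V, Centred V q → (q ∈ C → χ V) ∧ (q ∈ C' → ¬χ V) := by
  classical
  let R := polyAlg (k := k) (zt y i)
  let B : CommRingCat.{u} := CommRingCat.of (clos (k := k) (zt y i))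
  haveI : IsNoetherianRing R := (polyAlg_normal (indep_zt hy i)).1
  haveI := finite_clos (indep_zt hy i) (adjoin_zt hy i)
  haveI : IsNoetherianRing (clos (k := k) (zt y i)) :=
    IsNoetherianRing.of_finite R (clos (k := k) (zt y i))
  haveI : IsNoetherianRing B := ‹IsNoetherianRing (clos (k := k) (zt y i))›
  let bK : B ⟶ CommRingCat.of K := CommRingCat.ofHom (clos (k := k) (zt y i)).val.toRingHom
  let σ : CommRingCat.of k ⟶ B := CommRingCat.ofHom
    ((algebraMap R (clos (k := k) (zt y i))).comp (algebraMap k R))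
  have hσ : σ ≫ bK = κ := by rw [← hkK]; rfl
  let pr₁ := pullback.fst p (Spec.map σ)
  let pr₂ := pullback.snd p (Spec.map σ)
  let j : Spec (CommRingCat.of K) ⟶ pullback p (Spec.map σ) :=
    pullback.lift gen (Spec.map bK) (by rw [← Spec.map_comp, hσ, hκ])
  haveI : QuasiCompact j := inferInstance
  let qq : j.image ⟶ Spec B := j.imageι ≫ pr₂
  haveI : IsProper qq := inferInstanceAs (IsProper (_ ≫ _))
  have hqq : j.toImage ≫ qq = Spec.map bK := by
    rw [← Category.assoc, Scheme.Hom.toImage_imageι, pullback.lift_snd]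
  -- global functions
  have happ : Function.Bijective qq.appTop.hom := by
    let e : Γ(Spec (CommRingCat.of K), ⊤) →+* K := (Scheme.ΓSpecIso (CommRingCat.of K)).hom.hom
    have hinjImg : Function.Injective j.toImage.appTop.hom := by
      have h := j.stalkFunctor_toImage_injective
      intro a b hab
      refine TopCat.Presheaf.section_ext j.image.sheaf ⊤ a b fun x hx => h x ?_
      erw [TopCat.Presheaf.stalkFunctor_map_germ_apply, TopCat.Presheaf.stalkFunctor_map_germ_apply]
      exact congrArg _ hab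
    have hcomp : ∀ b : B, e (j.toImage.appTop (qq.appTop ((Scheme.ΓSpecIso B).inv b))) = bK b := fun b => by
      have h : (Scheme.ΓSpecIso B).inv ≫ qq.appTop ≫ j.toImage.appTop ≫ (Scheme.ΓSpecIso (CommRingCat.of K)).hom = bK := by
        rw [← Scheme.Hom.comp_appTop_assoc, hqq, Scheme.ΓSpecIso_naturality, Iso.inv_hom_id_assoc]
      exact ConcreteCategory.congr_hom h b
    have heinj : Function.Injective e := (Scheme.ΓSpecIso (CommRingCat.of K)).commRingCatIsoToRingEquiv.injective
    have hbinj : Function.Injective bK.hom := Subtype.val_injective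
    constructor
    · intro a b hab
      obtain ⟨a', rfl⟩ := (ConcreteCategory.bijective_of_isIso (Scheme.ΓSpecIso B).inv).2 a
      obtain ⟨b', rfl⟩ := (ConcreteCategory.bijective_of_isIso (Scheme.ΓSpecIso B).inv).2 b
      rw [show a' = b' from hbinj (by rw [← hcomp, ← hcomp]; exact congrArg (fun z => e (j.toImage.appTop z)) hab)]
    · intro s
      have hfin := HensProper6.finite_toGlobal (A := B) qq
      obtain ⟨P, hP, hPs⟩ := hfin.to_isIntegral s
      have hroot : IsIntegral (clos (k := k) (zt y i)) (e (j.toImage.appTop s)) := by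
        refine ⟨P, hP, ?_⟩
        have := congrArg (fun z => e (j.toImage.appTop.hom z)) hPs
        simp only [Polynomial.hom_eval₂, map_zero] at this
        rw [← this]
        congr 1
        exact RingHom.ext fun b => (hcomp b).symm
      have hmem : IsIntegral R (e (j.toImage.appTop s)) := isIntegral_trans _ hroot
      refine ⟨(Scheme.ΓSpecIso B).inv ⟨_, hmem⟩, hinjImg (heinj ?_)⟩
      exact hcomp ⟨_, hmem⟩
  have hsurj := HensProper6.surjective_of_bijective_appTop qq happ
  let g : j.image ⟶ X := j.imageι ≫ pr₁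
  -- points of the image lie over valuations
  have hlift : ∀ γ : j.image, ∃ V, IsCentre gen V (g γ) ∧ Centred V (qq γ) := by
    intro γ
    have hγ : j.imageι γ ∈ closure {j (closedPoint K)} := by
      have h1 : j.imageι γ ∈ closure (Set.range j) := by
        rw [← Scheme.Hom.support_ker, ← Scheme.IdealSheafData.range_subschemeι]
        exact ⟨γ, rfl⟩
      refine closure_mono ?_ h1
      rintro _ ⟨q, rfl⟩
      rw [Set.mem_singleton_iff, show q = closedPoint K from Subsingleton.elim _ _]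
    obtain ⟨V, m, hm, hmγ⟩ := exists_val_lift j hγ
    refine ⟨V, ⟨m ≫ pr₁, ?_, by rw [Scheme.Hom.comp_apply, hmγ]; rfl⟩, ?_⟩
    · rw [← Category.assoc, hm, pullback.lift_fst]
    · obtain ⟨ψ, hψ⟩ := Spec.map_surjective (m ≫ pr₂)
      have h1 : ψ ≫ incl V = bK := Spec.map_injective (by rw [Spec.map_comp, hψ, ← Category.assoc, hm, pullback.lift_snd])
      have hb : ∀ b : clos (k := k) (zt y i), (ψ.hom b : K) = (b : K) := fun b => (ConcreteCategory.congr_hom h1 b :)
      refine ⟨fun b => by rw [← hb b]; exact (ψ.hom b).2, fun b => ?_⟩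
      have hpt : qq γ = (Spec.map ψ) (closedPoint V) := by
        rw [hψ, Scheme.Hom.comp_apply]; exact congrArg pr₂ hmγ.symm
      rw [hpt, ← hb b, ← ValuationSubring.valuation_lt_one_iff]
      rfl
  have hfibZ : ∀ q, tEl y i ∈ q.asIdeal → ∀ γ, qq γ = q → g γ ∈ Z₁ ∪ Z₂ := by
    intro q hq γ hγ
    obtain ⟨V, hV, hc⟩ := hlift γ
    refine hout V ⟨i, fun hyV => ?_⟩ _ hV
    have h := (hc.2 (tEl y i)).1 (by rw [hγ]; exact hq)
    rw [coe_tEl, map_inv₀] at h
    have h0 : V.valuation (y i) ≠ 0 := (map_ne_zero V.valuation).2 (hy.ne_zero i)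
    exact not_le.2 ((inv_lt_one₀ (zero_lt_iff.2 h0)).1 h) ((V.valuation_le_one_iff _).2 hyV)
  refine ⟨qq '' (g ⁻¹' Z₁), qq '' (g ⁻¹' Z₂), qq.isClosedMap _ (hZ₁.preimage g.continuous),
    qq.isClosedMap _ (hZ₂.preimage g.continuous), fun q hq => ?_⟩
  refine ⟨?_, fun V hV => ?_⟩
  · obtain ⟨γ, rfl⟩ := hsurj q
    rcases hfibZ _ hq γ rfl with h | h
    · exact Or.inl ⟨γ, h, rfl⟩
    · exact Or.inr ⟨γ, h, rfl⟩
  -- the centre of `V` is in the image of the fibre
  have hk : ∀ c, κ.hom c ∈ V := fun c => by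
    rw [← hσ]
    exact hV.1 (σ.hom c)
  obtain ⟨x, l, hl, hlx⟩ := exists_centre κ hκ V hk
  let ψ : B ⟶ CommRingCat.of V := CommRingCat.ofHom
    ((clos (k := k) (zt y i)).val.toRingHom.codRestrict V.toSubring hV.1)
  let m : Spec (CommRingCat.of V) ⟶ pullback p (Spec.map σ) := pullback.lift l (Spec.map ψ) (by
    haveI : Mono (incl V) := ConcreteCategory.mono_of_injective _ (incl_injective V)
    obtain ⟨φ, hφ⟩ := Spec.map_surjective (l ≫ p)
    rw [← hφ, ← Spec.map_comp]
    congr 1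
    rw [← cancel_mono (incl V)]
    refine Spec.map_injective ?_
    rw [Spec.map_comp, hφ, ← Category.assoc, hl, ← hκ, ← hσ]
    rfl)
  have hm : Spec.map (incl V) ≫ m = j := pullback.hom_ext
    (by rw [Category.assoc, pullback.lift_fst, pullback.lift_fst, hl])
    (by rw [Category.assoc, pullback.lift_snd, pullback.lift_snd, ← Spec.map_comp]; rfl)
  obtain ⟨γ, hγ⟩ : m (closedPoint V) ∈ Set.range j.imageι := by
    have hcl : IsClosed (Set.range j.imageι) := j.imageι.isClosedEmbedding.isClosed_range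
    refine ((IsLocalRing.specializes_closedPoint ((Spec.map (incl V)) (closedPoint K))).map m.continuous).mem_closed hcl ?_
    refine ⟨j.toImage (closedPoint K), ?_⟩
    rw [← Scheme.Hom.comp_apply, ← Scheme.Hom.comp_apply, j.toImage_imageι, hm]
  have hγq : qq γ = q := by
    show pr₂ (j.imageι γ) = q
    rw [hγ, ← Scheme.Hom.comp_apply, pullback.lift_snd]
    refine PrimeSpectrum.ext (Ideal.ext fun b => ?_)
    exact (V.valuation_lt_one_iff ⟨(b : K), hV.1 b⟩).trans (hV.2 b).symm
  have hgγ : g γ = x := by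
    show pr₁ (j.imageι γ) = x
    rw [hγ, ← Scheme.Hom.comp_apply, pullback.lift_fst, hlx]
  -- connected fibre
  have hconn : _root_.IsPreconnected (g '' (qq ⁻¹' {q})) :=
    (HensProper6.isPreconnected_fibre qq happ q).image _ g.continuous.continuousOn
  have hsub : g '' (qq ⁻¹' {q}) ⊆ Z₁ ∪ Z₂ := by
    rintro _ ⟨δ, hδ, rfl⟩
    exact hfibZ q hq δ hδ
  have hx : x ∈ g '' (qq ⁻¹' {q}) := ⟨γ, hγq, hgγ⟩
  constructor
  · rintro ⟨δ, hδ, hδq⟩
    refine (hχ V x ⟨l, hl, hlx⟩).1 ?_
    by_contra hx1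
    have hx2 := (hsub hx).resolve_left hx1
    obtain ⟨z, -, hz⟩ := isPreconnected_closed_iff.1 hconn Z₁ Z₂ hZ₁ hZ₂ hsub ⟨_, ⟨δ, hδq, rfl⟩, hδ⟩ ⟨x, hx, hx2⟩
    exact Set.disjoint_left.1 hdisj hz.1 hz.2
  · rintro ⟨δ, hδ, hδq⟩
    refine (hχ V x ⟨l, hl, hlx⟩).2 ?_
    by_contra hx2
    have hx1 := (hsub hx).resolve_right hx2
    obtain ⟨z, -, hz⟩ := isPreconnected_closed_iff.1 hconn Z₁ Z₂ hZ₁ hZ₂ hsub ⟨x, hx, hx1⟩ ⟨_, ⟨δ, hδq, rfl⟩, hδ⟩
    exact Set.disjoint_left.1 hdisj hz.1 hz.2

end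

end Groth.Agent.AffCompl
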